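import Cfsg.Agent.H148.Ru.CentSeven
import Cfsg.Agent.OddHalf.D9.Ru.XCover
import Cfsg.Agent.OddHalf.D9.KillAny_m3
import Cfsg.Agent.H753.FxRu
import Cfsg.Agent.H436.TwoRu
import Cfsg.Agent.CTwoTab.Ru
import Cfsg.Agent.H58.Rec.Outer_m3
import Cfsg.Agent.FastGrp
import Cfsg.Agent.Prune
set_option linter.all false
prune_inst 0x7f00000000000000000000000000000000000000000000000000000000000000000000000000000000000000000000000000000000000000000000000000000000000000000000000000000000000000003fffffffffffffffffffffffffffbeffbdffffffff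
open scoped Cfsg.Agent.FastGrp

/-!
# Element orders of the Rudvalis group (helper583, for S3484)

* `pow14`, `dvd_two_of_seven` : an element of order `7 k` has `k ∣ 2`, and no element has order 28;
* `no30` : no element of order 30; `ord15` : an element of order 15;
* `iso29` : 29 is isolated.
-/

set_option autoImplicit false
set_option maxRecDepth 100000
set_option exponentiation.threshold 5000

namespace Cfsg.Agent.H583.RuFacts

open Subgroup Cfsg Cfsg.Agent.SporadicB Cfsg.Agent.RuD.Letters Cfsg.Agent.SporRec.TCUpperCert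
open Cfsg.Agent.KFacts.Ru Cfsg.Agent.RuB Cfsg.Agent.H58.Rec Cfsg.Agent.H455.Isolated
open Cfsg.Agent.OddHalf.D9.Ru Cfsg.Agent.OddHalf.D9.Ru.XDef

theorem fin : Finite RuOrder.H := H436.TwoRu.finite_H

theorem card_H : Nat.card RuOrder.H = 145926144000 := RuOrder.card_H

/-! ### the centralizer of `F` -/

theorem add_self : ∀ {a b : A4}, b + a = 0 → a = b := by decide

/-- the core of the model -/
theorem core : ∃ C : Core RuOrder.H, Nat.card ↥C.L = 29120 ∧ C.v (1, 0) = T ∧ F ∈ C.L := by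
  obtain ⟨C, -, h1, h2, -⟩ := lets_model.exists_core
  refine ⟨C, ?_, ?_, ?_⟩
  · rw [h1]
    exact lets_model.card_L
  · rw [h2]
    exact mul_one T
  · rw [h1]
    exact subset_closure (by simp)

theorem wF : (wprod ml [3] : RuOrder.H) = F := by rw [wprod_cons, wprod_nil, mul_one]; rfl

theorem orderF : orderOf (F : RuOrder.H) = 7 := by
  rw [← wF]
  exact H148.Ru.orderC

theorem card_CF : Nat.card (centralizer ({F} : Set RuOrder.H)) ≤ 28 := by
  rw [← wF, H436.TwoRu.cen_eq]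
  exact H148.Ru.card_C

/-- the centralizer of `F` is `2² × 7` -/
theorem exists_of_comm {g : RuOrder.H} (hg : g * F = F * g) :
    ∃ (v : RuOrder.H) (i : ℕ), v * v = 1 ∧ v * F = F * v ∧ g = v * F ^ i := by
  have := fin
  obtain ⟨C, -, -, hF⟩ := core
  have hc : ∀ a, Commute (C.v a) F := fun a => C.v_comm a F hF
  let φ : A4 × Fin 7 → centralizer ({F} : Set RuOrder.H) := fun p =>
    ⟨C.v p.1 * F ^ (p.2 : ℕ), by
      rw [mem_centralizer_singleton_iff]
      exact ((hc p.1).mul_left ((Commute.refl F).pow_left _)).eq⟩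
  have hinj : Function.Injective φ := by
    rintro ⟨a, i⟩ ⟨b, j⟩ h
    have h1 : C.v a * F ^ (i : ℕ) = C.v b * F ^ (j : ℕ) := congrArg Subtype.val h
    have h2 : C.v (b + a) = F ^ (j : ℕ) * (F ^ (i : ℕ))⁻¹ := by
      rw [C.v_add, eq_mul_inv_iff_mul_eq, mul_assoc, h1, ← mul_assoc, C.v_sq, one_mul]
    have h3 : b + a = 0 := C.v_notin _ (by
      rw [h2]
      exact mul_mem (pow_mem hF _) (inv_mem (pow_mem hF _)))
    have h4 : a = b := add_self h3
    subst h4
    have h5 : F ^ (i : ℕ) = F ^ (j : ℕ) := mul_left_cancel h1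
    have h6 := (pow_inj_mod (n := (i : ℕ)) (m := (j : ℕ))).1 h5
    rw [orderF, Nat.mod_eq_of_lt i.2, Nat.mod_eq_of_lt j.2] at h6
    rw [Fin.ext h6]
  have hb := hinj.bijective_of_nat_card_le (by
    refine card_CF.trans ?_
    rw [Nat.card_prod, Nat.card_eq_fintype_card, Nat.card_eq_fintype_card, Fintype.card_fin]
    decide)
  obtain ⟨⟨a, i⟩, hai⟩ := hb.2 ⟨g, mem_centralizer_singleton_iff.2 hg⟩
  exact ⟨C.v a, i, C.v_sq a, hc a, (congrArg Subtype.val hai).symm⟩

theorem pow14 {g : RuOrder.H} (hg : g * F = F * g) : g ^ 14 = 1 := by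
  obtain ⟨v, i, h1, h2, rfl⟩ := exists_of_comm hg
  have h3 : Commute v (F ^ i) := Commute.pow_right h2 i
  rw [h3.mul_pow, show (14 : ℕ) = 2 * 7 from rfl, pow_mul, pow_two, h1, one_pow, one_mul, ← pow_mul,
    show i * (2 * 7) = 7 * (i * 2) by ring, pow_mul, ← orderF, pow_orderOf_eq_one, one_pow]

/-- **an element whose order is divisible by 7 has order 7 or 14** -/
theorem dvd_14 {g : RuOrder.H} (hg : 7 ∣ orderOf g) : g ^ 14 = 1 := by
  have := fin
  have hf7 : Fact (Nat.Prime 7) := ⟨by norm_num⟩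
  obtain ⟨k, hk⟩ := exists_pow_orderOf hg
  have hsq : ¬ 7 ^ 2 ∣ Nat.card RuOrder.H := by rw [card_H]; norm_num
  have hZ : ∀ x : RuOrder.H, orderOf x = 7 → ∀ P : Sylow 7 RuOrder.H, zpowers x ≤ P → zpowers x = P := by
    intro x hx P hP
    apply eq_of_le_of_card_ge hP
    rw [Nat.card_zpowers, hx]
    obtain ⟨j, hj⟩ := IsPGroup.iff_card.1 P.isPGroup'
    have h1 : j < 2 := by
      by_contra h2
      apply hsq
      have h3 : 7 ^ 2 ∣ 7 ^ j := pow_dvd_pow 7 (by omega)
      rw [← hj] at h3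
      exact h3.trans (card_subgroup_dvd_card _)
    rw [hj]
    interval_cases j <;> norm_num
  have hp : ∀ x : RuOrder.H, orderOf x = 7 → IsPGroup 7 (zpowers x) := fun x hx =>
    IsPGroup.of_card (n := 1) (by rw [Nat.card_zpowers, hx, pow_one])
  obtain ⟨P, hP⟩ := (hp _ hk).exists_le_sylow
  obtain ⟨Q, hQ⟩ := (hp _ orderF).exists_le_sylow
  have hP' := hZ _ hk P hP
  have hQ' := hZ _ orderF Q hQ
  obtain ⟨c, hc⟩ := MulAction.exists_smul_eq RuOrder.H Q P
  -- `c F c⁻¹` is a power of `g`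
  have h1 : c * F * c⁻¹ ∈ zpowers (g ^ k) := by
    rw [hP', ← hc, Sylow.coe_subgroup_smul]
    exact Subgroup.smul_mem_pointwise_smul F (MulAut.conj c) _ (hQ (mem_zpowers F))
  have h2 : Commute g (c * F * c⁻¹) := by
    obtain ⟨n, hn⟩ := mem_zpowers_iff.1 h1
    rw [← hn]
    exact ((Commute.refl g).pow_right k).zpow_right n
  have h3 : (c⁻¹ * g * c) ^ 14 = 1 := by
    apply pow14
    calc c⁻¹ * g * c * F = c⁻¹ * (g * (c * F * c⁻¹)) * c := by group
      _ = c⁻¹ * ((c * F * c⁻¹) * g) * c := by rw [h2.eq]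
      _ = F * (c⁻¹ * g * c) := by group
  have h4 : c⁻¹ * g * c = c⁻¹ * g * c⁻¹⁻¹ := by rw [inv_inv]
  rw [h4, conj_pow] at h3
  have h5 : c⁻¹ * g ^ 14 * c⁻¹⁻¹ = 1 := h3
  rwa [conj_eq_one_iff] at h5

theorem no7 {k : ℕ} (hk : ¬ k ∣ 2) : ¬ HasOrd RuOrder.H (7 * k) := by
  rintro ⟨g, hg⟩
  have h1 := dvd_14 (g := g) (by rw [hg]; exact dvd_mul_right 7 k)
  have h2 := orderOf_dvd_of_pow_eq_one h1
  rw [hg] at h2
  exact hk (Nat.dvd_of_mul_dvd_mul_left (by norm_num : 0 < 7) (by exact h2))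

/-! ### 29 is isolated -/

theorem cent29 (x : RuOrder.H) (hx : orderOf x = 29) (y : RuOrder.H) (hxy : Commute x y) : y ∈ zpowers x := by
  have := fin
  have h1 : zpowers x ≤ centralizer ({x} : Set RuOrder.H) := by
    rw [zpowers_le, mem_centralizer_singleton_iff]
  have h2 : zpowers x = centralizer ({x} : Set RuOrder.H) := by
    apply eq_of_le_of_card_ge h1
    rw [Nat.card_zpowers, hx]
    exact Nat.le_of_dvd (by norm_num) (H436.TwoRu.cent29 x hx)
  rw [h2, mem_centralizer_singleton_iff]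
  exact hxy.symm.eq

theorem iso29 : Isolated RuOrder.H 29 := by
  rw [isolated_iff]
  rintro s hs hs29 ⟨g, hg⟩
  have := fin
  have h1 : orderOf (g ^ s) = 29 := by
    rw [orderOf_pow_of_dvd hs.ne_zero (by rw [hg]; exact dvd_mul_left _ _), hg, Nat.mul_div_cancel _ hs.pos]
  have h2 := cent29 _ h1 g ((Commute.refl g).pow_left s)
  have h3 := orderOf_dvd_of_mem_zpowers h2
  rw [h1, hg] at h3
  have h4 : 29 * s ≤ 29 := Nat.le_of_dvd (by norm_num) h3
  have := hs.two_le
  omega

/-! ### 30 -/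

/-- an element of odd order commuting with `T` lies in `Sz(8)` -/
theorem not_three_T {g : RuOrder.H} (hg : g * T = T * g) (h3 : orderOf g = 15) : False := by
  have := fin
  obtain ⟨C, hL, hT, -⟩ := core
  rw [← hT] at hg
  obtain ⟨b, l, hl, hxl⟩ := C.cent (1, 0) (by decide) g hg
  have h1 : g ^ 2 ∈ C.L := by
    have h1 : (C.v b * l) * (C.v b * l) = l * l := by
      calc (C.v b * l) * (C.v b * l) = C.v b * (l * C.v b) * l := by group
        _ = C.v b * (C.v b * l) * l := by rw [C.v_comm b l hl]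
        _ = (C.v b * C.v b) * (l * l) := by group
        _ = l * l := by rw [C.v_sq b, one_mul]
    rw [pow_two, hxl, h1]
    exact mul_mem hl hl
  have h2 : orderOf (⟨g ^ 2, h1⟩ : C.L) ∣ 29120 := hL ▸ orderOf_dvd_natCard _
  rw [Subgroup.orderOf_mk, orderOf_pow, h3] at h2
  revert h2
  decide

/-- elements of order 15 commuting with `S ^ 2` lie in `P1` -/
theorem mem_P1 {g : RuOrder.H} (hg : g * (S * S) = S * S * g) (h15 : orderOf g = 15) : g ∈ P1 := by
  have h1 : g ∈ XCover.M := by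
    rw [XCover.M_eq, mem_centralizer_singleton_iff]
    exact hg
  have h2 : g * g ∈ P1 := by
    rcases XCover.mem_M.1 h1 with h | h
    · exact mul_mem h h
    · have h3 := mul_mem (XCover.conj_h _ h) h
      have e : XCover.h * (XCover.h * g) * XCover.h * (XCover.h * g) = g * g := by
        calc XCover.h * (XCover.h * g) * XCover.h * (XCover.h * g) =
            (XCover.h * XCover.h) * g * (XCover.h * XCover.h) * g := by group
          _ = g * g := by rw [XCover.hh]; group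
      rwa [e] at h3
  have h3 : g = (g * g) ^ 8 := by
    rw [← pow_two, ← pow_mul, show 2 * 8 = 15 + 1 from rfl, pow_add, ← h15, pow_orderOf_eq_one, one_mul, pow_one]
  rw [h3]
  exact pow_mem h2 8

theorem pow_mem_R {r a : RuOrder.H} (hr : r ∈ XR.R) (ha : a ∈ XR.A) : ∀ n : ℕ, (r * a) ^ n * (a ^ n)⁻¹ ∈ XR.R
  | 0 => by simp [one_mem]
  | n + 1 => by
    have ih := pow_mem_R hr ha n
    have h1 : (r * a) ^ (n + 1) * (a ^ (n + 1))⁻¹ = r * (a * ((r * a) ^ n * (a ^ n)⁻¹) * a⁻¹) := by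
      rw [pow_succ', pow_succ' a n, mul_inv_rev]
      have h2 : (a ^ n)⁻¹ * a⁻¹ = a⁻¹ * (a ^ n)⁻¹ := by
        rw [← mul_inv_rev, ← mul_inv_rev, ← pow_succ, ← pow_succ']
      have h3 : a * ((r * a) ^ n * (a ^ n)⁻¹) * a⁻¹ = a * (r * a) ^ n * ((a ^ n)⁻¹ * a⁻¹) := by group
      rw [h3]
      group
    rw [h1]
    exact mul_mem hr (XR.A_nor a ha _ ih)

theorem not_SS {g : RuOrder.H} (hg : g * (S * S) = S * S * g) (h15 : orderOf g = 15) : False := by
  obtain ⟨r, hr, a, ha, rfl⟩ := XR.cover g (mem_P1 hg h15)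
  have key : ∀ n : ℕ, a ^ n = 1 → 15 ∣ n := by
    intro n hn
    have h1 := pow_mem_R hr ha n
    rw [hn, inv_one, mul_one] at h1
    obtain ⟨k, hk⟩ := XR.R_two ⟨_, h1⟩
    have h2 : ((r * a) ^ n) ^ 2 ^ k = 1 := congrArg Subtype.val hk
    rw [← pow_mul] at h2
    have h3 := orderOf_dvd_of_pow_eq_one h2
    rw [h15] at h3
    exact Nat.Coprime.dvd_of_dvd_mul_right (Nat.Coprime.pow_right k (by norm_num)) h3
  rcases XR.elt_A a ha with h | h | ⟨c, -, h⟩
  · exact absurd (key 3 h) (by norm_num)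
  · exact absurd (key 5 h) (by norm_num)
  · refine absurd (key 2 ?_) (by norm_num)
    rw [← h, conj_pow, pow_two, XR.TT, mul_one, mul_inv_cancel]

theorem no30 : ¬ HasOrd RuOrder.H 30 := by
  rintro ⟨g, hg⟩
  have h15 : orderOf (g ^ 2) = 15 := by
    rw [orderOf_pow_of_dvd (by norm_num) (by rw [hg]; norm_num), hg]
  have h2 : orderOf (g ^ 15) = 2 := by
    rw [orderOf_pow_of_dvd (by norm_num) (by rw [hg]; norm_num), hg]
  have hc : Commute (g ^ 2) (g ^ 15) := (Commute.refl g).pow_pow _ _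
  have hz : g ^ 15 * g ^ 15 = 1 := by
    have := pow_orderOf_eq_one (g ^ 15)
    rwa [h2, pow_two] at this
  have hz1 : g ^ 15 ≠ 1 := by
    intro h
    rw [h, orderOf_one] at h2
    norm_num at h2
  have key : ∀ s : RuOrder.H, IsConj s (g ^ 15) → ∃ x : RuOrder.H, x * s = s * x ∧ orderOf x = 15 := by
    intro s hs
    obtain ⟨c, hc'⟩ := isConj_iff.1 hs
    refine ⟨c⁻¹ * g ^ 2 * c, ?_, ?_⟩
    · have hs' : s = c⁻¹ * g ^ 15 * c := by rw [← hc']; group
      rw [hs']
      calc c⁻¹ * g ^ 2 * c * (c⁻¹ * g ^ 15 * c) = c⁻¹ * (g ^ 2 * g ^ 15) * c := by group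
        _ = c⁻¹ * (g ^ 15 * g ^ 2) * c := by rw [hc.eq]
        _ = c⁻¹ * g ^ 15 * c * (c⁻¹ * g ^ 2 * c) := by group
    · rw [← h15]
      have h1 := orderOf_injective (MulAut.conj c⁻¹).toMonoidHom (MulAut.conj c⁻¹).injective (g ^ 2)
      rw [← h1]
      congr 1
  rcases XLevel.isConj_or hz hz1 with h | h
  · obtain ⟨x, h3, h4⟩ := key _ h
    exact not_SS h3 h4
  · obtain ⟨x, h3, h4⟩ := key _ h
    exact not_three_T h3 h4

/-! ### 15 -/

/-- a word of order 15 -/
def w15 : List ℕ := [2, 1, 1, 4]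

theorem c15 : chkEq (H753.FxRu.rp 15 w15) [] = true := by decide +kernel
theorem d15a : Nat.beq (evalK (H753.FxRu.rp 5 w15) 0) 0 = false := by decide +kernel
theorem d15b : Nat.beq (evalK (H753.FxRu.rp 3 w15) 0) 0 = false := by decide +kernel

theorem ord15 : HasOrd RuOrder.H 15 := by
  refine ⟨wprod ml w15, orderOf_eq_of_pow_and_pow_div_prime (by norm_num) (H753.FxRu.pow_eq_one c15) fun p hp hd => ?_⟩
  have h : p = 3 ∨ p = 5 := by
    have h1 : p ∣ 3 * 5 := hd
    rcases (hp.dvd_mul).1 h1 with h2 | h2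
    · exact Or.inl ((Nat.prime_dvd_prime_iff_eq hp Nat.prime_three).1 h2)
    · exact Or.inr ((Nat.prime_dvd_prime_iff_eq hp Nat.prime_five).1 h2)
  rcases h with rfl | rfl
  · exact H753.FxRu.pow_ne_one 0 (by norm_num) d15a
  · exact H753.FxRu.pow_ne_one 0 (by norm_num) d15b

/-- 29 is a good prime -/
theorem good29 : Good RuOrder.H 29 where
  prime := by norm_num
  ne2 := by norm_num
  dvd := by rw [card_H]; norm_num
  iso := iso29
  ex := ⟨15, by decide, by norm_num, ord15, no30⟩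

/-- the Frobenius group `29 : 14` -/
theorem frob : HasFrob RuOrder.H 29 14 := by
  have := fin
  refine hasFrob_of_card (N := 145926144000) (by norm_num) card_H (by norm_num) (by norm_num) cent29 (by norm_num) ?_
  decide +kernel

end Cfsg.Agent.H583.RuFacts
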