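/-
The nilpotent case: `V` is free over a Frobenius complement `H` when the nilpotent kernel `F` (of order prime to the
characteristic) has no fixed points.
-/
import Mathlib
set_option linter.all false

-- part: H583/NormalBasis
section
set_option autoImplicit false

namespace Cfsg.Agent.H583.NormalBasis

open Matrix
open scoped Pointwise

section Field

variable {S K : Type*} [Group S] [Fintype S] [DecidableEq S] [Field K] [MulSemiringAction S K]

theorem exists_normal_field [FaithfulSMul S K] :
    ∃ x : K, (Matrix.of fun a b : S => (a * b) • x).det ≠ 0 := by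
  classical
  let x : K := IsGalois.normalBasis (FixedPoints.subfield S K) K 1
  refine ⟨x, fun hdet => ?_⟩
  obtain ⟨d, hd0, hd⟩ := Matrix.exists_vecMul_eq_zero_iff.2 hdet
  apply hd0
  -- the functional `y ↦ ∑ d_a (a • y)` vanishes
  have h1 : ∀ b : S, ∑ a, d a * (a • (b • x)) = 0 := by
    intro b
    have := congrFun hd b
    simp only [Matrix.vecMul, dotProduct, Matrix.of_apply, Pi.zero_apply] at this
    rw [← this]
    refine Finset.sum_congr rfl fun a _ => ?_
    rw [mul_smul]
  let L : K →ₗ[FixedPoints.subfield S K] K :=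
    { toFun := fun y => ∑ a, d a * (a • y)
      map_add' := by
        intro y z
        simp only [smul_add, mul_add, Finset.sum_add_distrib]
      map_smul' := by
        intro c y
        simp only [RingHom.id_apply, Finset.smul_sum]
        refine Finset.sum_congr rfl fun a _ => ?_
        rw [smul_comm a c y, mul_smul_comm] }
  have hL : L = 0 := by
    refine (IsGalois.normalBasis (FixedPoints.subfield S K) K).ext fun e => ?_
    rw [IsGalois.normalBasis_apply]
    obtain ⟨b, hb⟩ := (FixedPoints.toAlgAut_bijective S K).2 e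
    have h2 : e x = b • x := by rw [← hb]; rfl
    change L (e x) = 0
    rw [h2]
    exact h1 b
  have h3 : ∀ y : K, ∑ a, d a * (a • y) = 0 := fun y => congrArg (fun f => f y) hL
  -- independence of characters
  have hind := linearIndependent_monoidHom K K
  let F : S → (K →* K) := fun a => (MulSemiringAction.toRingHom S K a : K →* K)
  have hF : Function.Injective F := by
    intro a b hab
    apply FaithfulSMul.eq_of_smul_eq_smul (α := K)
    intro y
    exact congrArg (fun f : K →* K => f y) hab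
  have hind2 := hind.comp F hF
  rw [Fintype.linearIndependent_iff] at hind2
  ext a
  refine hind2 d ?_ a
  ext y
  simp only [Function.comp_apply, Finset.sum_apply, Pi.smul_apply, smul_eq_mul, Pi.zero_apply]
  exact h3 y

end Field

section Ring

variable {H R : Type*} [Group H] [Fintype H] [DecidableEq H] [CommRing R] [MulSemiringAction H R]

/-- The matrix `((σ * g) • θ)`. -/
def gmat (H : Type*) [Group H] {R : Type*} [CommRing R] [MulSemiringAction H R] (θ : R) : Matrix H H R :=
  Matrix.of fun σ g => (σ * g) • θ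

omit [Fintype H] [DecidableEq H] in
theorem gmat_apply (θ : R) (σ g : H) : gmat H θ σ g = (σ * g) • θ := rfl

theorem exists_dual (θ : R) (hdet : IsUnit (gmat H θ).det) :
    ∃ θ' : R, (∀ σ τ : H, ∑ g : H, ((σ * g) • θ) * ((τ * g) • θ') = if σ = τ then 1 else 0) ∧
      (∀ g h : H, ∑ τ : H, ((τ * g) • θ') * ((τ * h) • θ) = if g = h then 1 else 0) := by
  classical
  set M := gmat H θ with hM
  have hMinv : M⁻¹ * M = 1 := Matrix.nonsing_inv_mul M hdet
  have hMinv' : M * M⁻¹ = 1 := Matrix.mul_nonsing_inv M hdet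
  -- uniqueness of row solutions
  have huniq : ∀ u v : H → R, u ᵥ* M = v ᵥ* M → u = v := by
    intro u v huv
    have := congrArg (fun w => w ᵥ* M⁻¹) huv
    simpa [Matrix.vecMul_vecMul, hMinv'] using this
  let n : H → R := fun τ => M⁻¹ 1 τ
  have hn : ∀ h : H, ∑ τ, n τ * ((τ * h) • θ) = if (1 : H) = h then 1 else 0 := by
    intro h
    have := congrFun (congrFun hMinv 1) h
    rw [Matrix.mul_apply, Matrix.one_apply] at this
    exact this
  have hneq : ∀ x : H, n x = x • n 1 := by
    intro x
    have h1 : (fun τ => x⁻¹ • n (x * τ)) = n := by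
      apply huniq
      ext h
      simp only [Matrix.vecMul, dotProduct, hM, gmat_apply]
      rw [hn h]
      have h2 : ∑ τ, x⁻¹ • n (x * τ) * (τ * h) • θ = x⁻¹ • ∑ τ, n (x * τ) * ((x * τ * h) • θ) := by
        rw [Finset.smul_sum]
        refine Finset.sum_congr rfl fun τ _ => ?_
        rw [smul_mul', smul_smul x⁻¹ (x * τ * h)]
        congr 2
        group
      rw [h2]
      have h3 : ∑ τ, n (x * τ) * ((x * τ * h) • θ) = ∑ τ, n τ * ((τ * h) • θ) :=
        Fintype.sum_equiv (Equiv.mulLeft x) _ _ (fun τ => rfl)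
      rw [h3, hn h]
      split_ifs
      · exact smul_one _
      · exact smul_zero _
    have h4 := congrFun h1 1
    simp only [mul_one] at h4
    rw [← h4, smul_inv_smul]
  refine ⟨n 1, ?_⟩
  have key : ∀ g h : H, ∑ τ : H, ((τ * g) • n 1) * ((τ * h) • θ) = if g = h then 1 else 0 := by
    intro g h
    have h1 : ∑ τ : H, ((τ * g) • n 1) * ((τ * h) • θ) = ∑ τ : H, n τ * ((τ * (g⁻¹ * h)) • θ) := by
      refine Fintype.sum_equiv (Equiv.mulRight g) _ _ (fun τ => ?_)
      simp only [Equiv.coe_mulRight]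
      rw [hneq (τ * g)]
      congr 2
      group
    rw [h1, hn]
    by_cases hgh : g = h
    · rw [if_pos hgh, if_pos (by rw [hgh]; group)]
    · rw [if_neg hgh, if_neg]
      intro h2
      apply hgh
      rw [eq_comm, inv_mul_eq_one] at h2
      exact h2
  refine ⟨?_, key⟩
  let N : Matrix H H R := Matrix.of fun g τ => (τ * g) • n 1
  have hNM : N * M = 1 := by
    ext g h
    rw [Matrix.mul_apply, Matrix.one_apply]
    exact key g h
  have hMN : M * N = 1 := mul_eq_one_comm.1 hNM
  intro σ τ
  have := congrFun (congrFun hMN σ) τ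
  rw [Matrix.mul_apply, Matrix.one_apply] at this
  exact this

/-- The determinant of `gmat` is invariant up to sign. -/
theorem gmat_det_smul (θ : R) (x : H) : x • (gmat H θ).det = (Equiv.Perm.sign (Equiv.mulLeft x)) * (gmat H θ).det := by
  have h1 : x • (gmat H θ).det = ((gmat H θ).submatrix (Equiv.mulLeft x) id).det := by
    have : x • (gmat H θ).det = (MulSemiringAction.toRingHom H R x) (gmat H θ).det := rfl
    rw [this, RingHom.map_det]
    congr 1
    ext σ g
    simp only [RingHom.mapMatrix_apply, Matrix.map_apply, gmat_apply, MulSemiringAction.toRingHom_apply,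
      Matrix.submatrix_apply, Equiv.coe_mulLeft, id_eq, smul_smul, mul_assoc]
  rw [h1, Matrix.det_permute]

/-- The action of the stabilizer on the residue field. -/
@[instance_reducible]
noncomputable def resAction (m : Ideal R) : MulSemiringAction (MulAction.stabilizer H m) (R ⧸ m) where
  smul a := Ideal.quotientMap m (MulSemiringAction.toRingHom H R (a : H)) (by
    intro r hr
    rw [Ideal.mem_comap, MulSemiringAction.toRingHom_apply]
    have h1 : (a : H) • m = m := a.2
    have h2 : (a : H) • r ∈ (a : H) • m := Ideal.smul_mem_pointwise_smul _ _ _ hr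
    rwa [h1] at h2)
  one_smul := by
    rintro ⟨r⟩
    change Ideal.Quotient.mk m ((1 : H) • r) = Ideal.Quotient.mk m r
    rw [one_smul]
  mul_smul := by
    rintro a b ⟨r⟩
    change Ideal.Quotient.mk m (((a : H) * b) • r) = Ideal.Quotient.mk m ((a : H) • (b : H) • r)
    rw [mul_smul]
  smul_zero := fun a => map_zero _
  smul_add := fun a => map_add _
  smul_one := fun a => map_one _
  smul_mul := fun a => map_mul _

omit [Fintype H] [DecidableEq H] in
theorem resAction_mk (m : Ideal R) (a : MulAction.stabilizer H m) (r : R) :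
    letI := resAction (H := H) m
    a • (Ideal.Quotient.mk m r) = Ideal.Quotient.mk m ((a : H) • r) := rfl

theorem exists_theta [IsArtinianRing R]
    (hH : ∀ (m : Ideal R), m.IsMaximal → ∀ h : H, h ≠ 1 → ∃ r : R, h • r - r ∉ m) :
    ∃ θ : R, IsUnit (gmat H θ).det := by
  classical
  -- for each maximal ideal, a good element for the stabilizer
  have hloc : ∀ m : Ideal R, m.IsMaximal → ∃ x : R,
      ∀ v : MulAction.stabilizer H m → R ⧸ m,
        (∀ a : MulAction.stabilizer H m, ∑ b : MulAction.stabilizer H m,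
          Ideal.Quotient.mk m (((a : H) * (b : H)) • x) * v b = 0) → v = 0 := by
    intro m hm
    letI := Ideal.Quotient.field m
    letI := resAction (H := H) m
    have hf : FaithfulSMul (MulAction.stabilizer H m) (R ⧸ m) := by
      refine ⟨fun {a b} hab => ?_⟩
      by_contra hne
      have h1 : (b : H)⁻¹ * a ≠ 1 := by
        intro h
        apply hne
        rw [inv_mul_eq_one] at h
        exact Subtype.ext h.symm
      obtain ⟨r, hr⟩ := hH m hm _ h1
      apply hr
      rw [← Ideal.Quotient.eq]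
      have h2 := hab (Ideal.Quotient.mk m r)
      have h3 : (b⁻¹ * a) • (Ideal.Quotient.mk m r) = Ideal.Quotient.mk m r := by
        rw [mul_smul, h2, inv_smul_smul]
      exact h3
    obtain ⟨x, hx⟩ := exists_normal_field (S := MulAction.stabilizer H m) (K := R ⧸ m)
    obtain ⟨x, rfl⟩ := Ideal.Quotient.mk_surjective x
    refine ⟨x, fun v hv => ?_⟩
    by_contra hv0
    apply hx
    rw [← Matrix.exists_mulVec_eq_zero_iff]
    refine ⟨v, hv0, ?_⟩
    ext a
    simp only [Matrix.mulVec, dotProduct, Matrix.of_apply, Pi.zero_apply]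
    exact hv a
  choose! x hx using hloc
  -- representatives of orbits
  let rep : Ideal R → Ideal R := fun m => (Quotient.mk (MulAction.orbitRel H (Ideal R)) m).out
  have hrep : ∀ m, ∃ t : H, rep m = t • m := by
    intro m
    have h1 : (MulAction.orbitRel H (Ideal R)) (rep m) m := Quotient.mk_out (s := MulAction.orbitRel H (Ideal R)) m
    rw [MulAction.orbitRel_apply] at h1
    obtain ⟨t, ht⟩ := h1
    exact ⟨t, ht.symm⟩
  have hrep2 : ∀ (m : Ideal R) (t : H), rep (t • m) = rep m := by
    intro m t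
    change (Quotient.mk (MulAction.orbitRel H (Ideal R)) (t • m)).out = (Quotient.mk (MulAction.orbitRel H (Ideal R)) m).out
    congr 1
    apply Quotient.sound
    exact ⟨t, rfl⟩
  have hmax : ∀ (m : Ideal R) (t : H), m.IsMaximal → (t • m).IsMaximal := by
    intro m t hm
    rw [Ideal.pointwise_smul_eq_comap]
    exact Ideal.comap_isMaximal_of_surjective _ (MulSemiringAction.toRingEquiv H R t).symm.surjective
  -- the element by CRT
  obtain ⟨θ, hθ⟩ : ∃ θ : R, ∀ m : MaximalSpectrum R,
      θ - (if rep m.asIdeal = m.asIdeal then x m.asIdeal else 0) ∈ m.asIdeal := by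
    refine Ideal.exists_forall_sub_mem_ideal (I := fun m : MaximalSpectrum R => m.asIdeal) ?_
      (fun m => if rep m.asIdeal = m.asIdeal then x m.asIdeal else 0)
    intro m n hmn
    have h1 : m.asIdeal ≠ n.asIdeal := fun h => hmn (MaximalSpectrum.ext h)
    have h2 := m.isMaximal
    have h3 := n.isMaximal
    exact Ideal.isCoprime_of_isMaximal h1
  refine ⟨θ, ?_⟩
  by_contra hnu
  obtain ⟨m, hm, hdm⟩ := exists_max_ideal_of_mem_nonunits hnu
  obtain ⟨t, ht⟩ := hrep m
  have hm₀max : (rep m).IsMaximal := by rw [ht]; exact hmax m t hm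
  have hm₀rep : rep (rep m) = rep m := by
    conv_lhs => rw [ht]
    exact hrep2 m t
  have hdm₀ : (gmat H θ).det ∈ rep m := by
    have h1 : t • (gmat H θ).det ∈ rep m := by
      rw [ht]
      exact Ideal.smul_mem_pointwise_smul _ _ _ hdm
    rw [gmat_det_smul] at h1
    rcases Int.units_eq_one_or (Equiv.Perm.sign (Equiv.mulLeft t)) with h2 | h2
    · rw [h2] at h1
      simpa using h1
    · rw [h2] at h1
      simpa using h1
  generalize rep m = m₀ at hm₀max hm₀rep hdm₀
  letI := Ideal.Quotient.field m₀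
  have hdet0 : ((gmat H θ).map (Ideal.Quotient.mk m₀)).det = 0 := by
    have h1 := RingHom.map_det (Ideal.Quotient.mk m₀) (gmat H θ)
    rw [RingHom.mapMatrix_apply] at h1
    rw [← h1]
    exact Ideal.Quotient.eq_zero_iff_mem.2 hdm₀
  obtain ⟨v, hv0, hv⟩ := Matrix.exists_mulVec_eq_zero_iff.2 hdet0
  apply hv0
  ext u
  have hvσ : ∀ σ : H, ∑ g, Ideal.Quotient.mk m₀ ((σ * g) • θ) * v g = 0 := by
    intro σ
    have := congrFun hv σ
    simpa only [Matrix.mulVec, dotProduct, Matrix.map_apply, gmat_apply, Pi.zero_apply] using this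
  have key := hx m₀ hm₀max (fun b => v (u * b)) ?_
  · have := congrFun key 1
    simpa using this
  intro a
  have h1 := hvσ (a * u⁻¹)
  have h2 : ∑ g, Ideal.Quotient.mk m₀ (((a : H) * u⁻¹ * g) • θ) * v g =
      ∑ y, Ideal.Quotient.mk m₀ (((a : H) * y) • θ) * v (u * y) := by
    refine (Fintype.sum_equiv (Equiv.mulLeft u) _ _ (fun y => ?_)).symm
    simp only [Equiv.coe_mulLeft]
    congr 3
    group
  rw [h2] at h1
  rw [← h1]
  have h3 : ∑ y, Ideal.Quotient.mk m₀ (((a : H) * y) • θ) * v (u * y) =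
      ∑ y ∈ Finset.univ.filter (fun y => y ∈ MulAction.stabilizer H m₀),
        Ideal.Quotient.mk m₀ (((a : H) * y) • θ) * v (u * y) := by
    symm
    apply Finset.sum_subset (Finset.filter_subset _ _)
    intro y _ hy
    have hyS : y ∉ MulAction.stabilizer H m₀ := fun h => hy (Finset.mem_filter.2 ⟨Finset.mem_univ _, h⟩)
    have hm₁ : ((((a : H) * y)⁻¹) • m₀).IsMaximal := hmax _ _ hm₀max
    have h4 := hθ ⟨_, hm₁⟩
    simp only at h4
    rw [hrep2, hm₀rep, if_neg, sub_zero, Ideal.mem_inv_pointwise_smul_iff] at h4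
    · rw [Ideal.Quotient.eq_zero_iff_mem.2 h4, zero_mul]
    · intro h5
      apply hyS
      have h6 : ((a : H) * y) • m₀ = m₀ := by
        have h8 := congrArg (fun I => ((a : H) * y) • I) h5
        simp only [smul_inv_smul] at h8
        exact h8
      have h7 : (a : H) * y ∈ MulAction.stabilizer H m₀ := h6
      exact (Subgroup.mul_mem_cancel_left _ a.2).1 h7
  rw [h3, Finset.sum_subtype (Finset.univ.filter (fun y => y ∈ MulAction.stabilizer H m₀))
    (p := fun y => y ∈ MulAction.stabilizer H m₀) (fun y => by simp)]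
  refine Finset.sum_congr rfl fun b _ => ?_
  congr 1
  rw [Ideal.Quotient.eq]
  have h4 := hθ ⟨_, hm₀max⟩
  simp only at h4
  rw [if_pos hm₀rep] at h4
  have h5 : ((a : H) * b) • (θ - x m₀) ∈ ((a : H) * b) • m₀ := Ideal.smul_mem_pointwise_smul _ _ _ h4
  have h6 : ((a : H) * b) • m₀ = m₀ := (a * b).2
  rw [h6, smul_sub] at h5
  have h7 := m₀.neg_mem h5
  rwa [neg_sub] at h7

end Ring

end Cfsg.Agent.H583.NormalBasis
end

-- part: H583/FreeOp
section
set_option autoImplicit false

namespace Cfsg.Agent.H583.FreeOp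

open Cfsg.Agent.H583.NormalBasis

section

variable {H E : Type*} [Group H] [Fintype H] [DecidableEq H] [Ring E]

/-- `π` exhibits the image of `e` as induced from the trivial group. -/
def HFree (ρ : H →* E) (e : E) : Prop :=
  ∃ π : E, π * e = π ∧ e * π = π ∧ (∀ g : H, π * ρ g * π = if g = 1 then π else 0) ∧
    ∑ g : H, ρ g * π * ρ g⁻¹ = e

omit [DecidableEq H] in
theorem rho_mul_sum (ρ : H →* E) (g : H) : ρ g * ∑ h, ρ h = ∑ h, ρ h := by
  rw [Finset.mul_sum]
  refine Fintype.sum_equiv (Equiv.mulLeft g) _ _ (fun h => ?_)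
  rw [Equiv.coe_mulLeft, map_mul]

theorem hfree_of_ring {R : Type*} [CommRing R] [MulSemiringAction H R] (T : R →+ E)
    (hTm : ∀ a b, T (a * b) = T a * T b) (ρ : H →* E) (hρ : ∀ h r, ρ h * T r = T (h • r) * ρ h)
    (θ θ' : R)
    (hA : ∀ σ τ : H, T (∑ g : H, ((σ * g) • θ) * ((τ * g) • θ')) = if σ = τ then T 1 else 0)
    (hB : ∀ g h : H, T (∑ τ : H, ((τ * g) • θ') * ((τ * h) • θ)) = if g = h then T 1 else 0) :
    HFree ρ (T 1) := by
  set S : E := ∑ h, ρ h with hS
  have hT1 : ∀ r, T r * T 1 = T r := fun r => by rw [← hTm, mul_one]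
  have h1T : ∀ r, T 1 * T r = T r := fun r => by rw [← hTm, one_mul]
  have hρS : ∀ g, ρ g * S = S := fun g => rho_mul_sum ρ g
  have hSTS : ∀ x, S * T x * S = T (∑ h : H, h • x) * S := by
    intro x
    rw [hS, Finset.sum_mul, Finset.sum_mul, map_sum, Finset.sum_mul, ← hS]
    refine Finset.sum_congr rfl fun h _ => ?_
    rw [hρ, mul_assoc, hρS]
  refine ⟨T θ * S * T θ', ?_, ?_, ?_, ?_⟩
  · rw [mul_assoc, hT1]
  · rw [← mul_assoc, ← mul_assoc, h1T]
  · intro g
    have h1 : T θ * S * T θ' * ρ g * (T θ * S * T θ') = T θ * (S * T (θ' * g • θ) * S) * T θ' := by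
      have h2 : T θ' * ρ g * T θ * S = T (θ' * g • θ) * S := by
        rw [mul_assoc (T θ'), hρ, hTm, mul_assoc, mul_assoc, mul_assoc, hρS]
      calc T θ * S * T θ' * ρ g * (T θ * S * T θ') = T θ * S * (T θ' * ρ g * T θ * S) * T θ' := by
            simp only [mul_assoc]
        _ = _ := by rw [h2]; simp only [mul_assoc]
    rw [h1, hSTS]
    have h3 : T (∑ h : H, h • (θ' * g • θ)) = if (1 : H) = g then T 1 else 0 := by
      rw [← hB 1 g]
      congr 1
      refine Finset.sum_congr rfl fun h _ => ?_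
      rw [smul_mul', smul_smul, mul_one]
    rw [h3]
    by_cases hg : g = 1
    · rw [if_pos hg, if_pos hg.symm, ← mul_assoc, hT1]
    · rw [if_neg hg, if_neg (fun h => hg h.symm), zero_mul, mul_zero, zero_mul]
  · have h1 : ∀ g : H, ρ g * (T θ * S * T θ') * ρ g⁻¹ =
        ∑ x : H, T ((g • θ) * ((x * g) • θ')) * ρ x := by
      intro g
      have h2 : ρ g * (T θ * S * T θ') * ρ g⁻¹ = T (g • θ) * (S * T θ' * ρ g⁻¹) := by
        calc ρ g * (T θ * S * T θ') * ρ g⁻¹ = ρ g * T θ * S * T θ' * ρ g⁻¹ := by simp only [mul_assoc]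
          _ = T (g • θ) * (ρ g * S) * T θ' * ρ g⁻¹ := by rw [hρ]; simp only [mul_assoc]
          _ = _ := by rw [hρS]; simp only [mul_assoc]
      rw [h2, hS, Finset.sum_mul, Finset.sum_mul, Finset.mul_sum]
      refine (Fintype.sum_equiv (Equiv.mulRight g) _ _ (fun x => ?_)).symm
      simp only [Equiv.coe_mulRight]
      rw [hρ, mul_assoc, ← map_mul, mul_inv_cancel_right, hTm, mul_assoc]
    rw [Finset.sum_congr rfl fun g _ => h1 g, Finset.sum_comm]
    have h2 : ∀ x : H, ∑ g : H, T ((g • θ) * ((x * g) • θ')) * ρ x = (if (1 : H) = x then T 1 else 0) * ρ x := by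
      intro x
      rw [← Finset.sum_mul, ← map_sum]
      congr 1
      rw [← hA 1 x]
      congr 1
      refine Finset.sum_congr rfl fun g _ => ?_
      rw [one_mul]
    rw [Finset.sum_congr rfl fun x _ => h2 x]
    simp

/-- The action on the quotient by an invariant ideal. -/
@[instance_reducible]
noncomputable def quotAction {R : Type*} [CommRing R] [MulSemiringAction H R] (I : Ideal R)
    (hI : ∀ (h : H) (r : R), r ∈ I → h • r ∈ I) : MulSemiringAction H (R ⧸ I) where
  smul h := Ideal.quotientMap I (MulSemiringAction.toRingHom H R h) (fun r hr => hI h r hr)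
  one_smul := by
    rintro ⟨r⟩
    change Ideal.Quotient.mk I ((1 : H) • r) = Ideal.Quotient.mk I r
    rw [one_smul]
  mul_smul := by
    rintro a b ⟨r⟩
    change Ideal.Quotient.mk I ((a * b) • r) = Ideal.Quotient.mk I (a • b • r)
    rw [mul_smul]
  smul_zero := fun a => map_zero _
  smul_add := fun a => map_add _
  smul_one := fun a => map_one _
  smul_mul := fun a => map_mul _

/-- Frobenius groups with abelian kernel of order prime to the characteristic. -/
theorem hfree_abelian {k Z : Type*} [Field k] [Algebra k E] [CommGroup Z] [Finite Z] (α : H →* MulAut Z)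
    (hα : ∀ h : H, h ≠ 1 → ∀ z, α h z = z → z = 1) (hk : (Nat.card Z : k) ≠ 0)
    (τ : Z → E) (hτ : ∀ a b, τ (a * b) = τ a * τ b) (ρ : H →* E) (hρ : ∀ h z, ρ h * τ z = τ (α h z) * ρ h)
    (hs : ∑ᶠ z, τ z = 0) : HFree ρ (τ 1) := by
  classical
  have := Fintype.ofFinite Z
  rw [finsum_eq_sum_of_fintype] at hs
  letI act : MulSemiringAction H (MonoidAlgebra k Z) :=
    MulSemiringAction.compHom _ ((MonoidAlgebra.domCongrAut (R := k) (A := k) (M := Z)).comp α)
  have hsm : ∀ (h : H) (r : MonoidAlgebra k Z), h • r = MonoidAlgebra.domCongr k k (α h) r := fun _ _ => rfl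
  have hsingle : ∀ (h : H) (z : Z) (c : k), h • (MonoidAlgebra.single z c) = MonoidAlgebra.single (α h z) c := by
    intro h z c
    rw [hsm, MonoidAlgebra.domCongr_single]
  let T : MonoidAlgebra k Z →ₙₐ[k] E := MonoidAlgebra.liftMagma k ⟨τ, hτ⟩
  have hT : ∀ z c, T (MonoidAlgebra.single z c) = c • τ z := by
    intro z c
    simp [T, MonoidAlgebra.liftMagma_apply_apply]
  have hTρ : ∀ (h : H) (r : MonoidAlgebra k Z), ρ h * T r = T (h • r) * ρ h := by
    intro h r
    induction r using MonoidAlgebra.induction_linear with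
    | zero => simp
    | add a b ha hb => rw [map_add, mul_add, ha, hb, smul_add, map_add, add_mul]
    | single z c => rw [hsingle, hT, hT, mul_smul_comm, hρ, smul_mul_assoc]
  let s : MonoidAlgebra k Z := ∑ z : Z, MonoidAlgebra.single z 1
  have hTs : T s = 0 := by
    simp only [s, map_sum, hT, one_smul]
    exact hs
  have hhs : ∀ h : H, h • s = s := by
    intro h
    simp only [s, Finset.smul_sum, hsingle]
    exact Fintype.sum_equiv (α h).toEquiv _ _ (fun z => rfl)
  let I : Ideal (MonoidAlgebra k Z) := Ideal.span {s}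
  have hI : ∀ (h : H) (r : MonoidAlgebra k Z), r ∈ I → h • r ∈ I := by
    intro h r hr
    obtain ⟨a, rfl⟩ := Ideal.mem_span_singleton'.1 hr
    rw [smul_mul', hhs]
    exact Ideal.mul_mem_left _ _ (Ideal.mem_span_singleton_self s)
  have hTI : ∀ r ∈ I, T r = 0 := by
    intro r hr
    obtain ⟨a, rfl⟩ := Ideal.mem_span_singleton'.1 hr
    rw [map_mul, hTs, mul_zero]
  letI := quotAction (H := H) I hI
  have hmk : ∀ (h : H) (r : MonoidAlgebra k Z), h • (Ideal.Quotient.mk I r) = Ideal.Quotient.mk I (h • r) :=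
    fun _ _ => rfl
  have hfin : Module.Finite k (MonoidAlgebra k Z) := inferInstance
  have hart : IsArtinianRing (MonoidAlgebra k Z) := IsArtinianRing.of_finite k _
  obtain ⟨θ, hθ⟩ := exists_theta (H := H) (R := MonoidAlgebra k Z ⧸ I) (by
    intro m hm h hh
    by_contra hcon
    push Not at hcon
    -- all group elements are congruent to one
    have h1 : ∀ z : Z, Ideal.Quotient.mk I (MonoidAlgebra.single (α h z * z⁻¹) 1) - 1 ∈ m := by
      intro z
      have h2 := hcon (Ideal.Quotient.mk I (MonoidAlgebra.single z 1))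
      rw [hmk, hsingle] at h2
      have h3 := m.mul_mem_left (Ideal.Quotient.mk I (MonoidAlgebra.single z⁻¹ 1)) h2
      rw [mul_sub, ← map_mul, ← map_mul, MonoidAlgebra.single_mul_single, MonoidAlgebra.single_mul_single,
        inv_mul_cancel, mul_one, mul_comm z⁻¹] at h3
      exact h3
    have h4 : Function.Surjective (fun z : Z => α h z * z⁻¹) := by
      have h5 : Function.Injective (fun z : Z => α h z * z⁻¹) := by
        intro a b hab
        simp only at hab
        have h6 : α h (a * b⁻¹) = a * b⁻¹ := by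
          rw [map_mul, map_inv]
          have h7 : α h a = α h b * b⁻¹ * a := by rw [← hab]; group
          rw [h7]
          rw [mul_assoc (α h b), mul_comm (α h b), mul_inv_cancel_right, mul_comm]
        have h8 := hα h hh _ h6
        rwa [mul_inv_eq_one] at h8
      exact Finite.injective_iff_surjective.1 h5
    have h5 : ∀ z : Z, Ideal.Quotient.mk I (MonoidAlgebra.single z 1) - 1 ∈ m := by
      intro z
      obtain ⟨y, rfl⟩ := h4 z
      exact h1 y
    have h6 : (Ideal.Quotient.mk I s) - (Nat.card Z : MonoidAlgebra k Z ⧸ I) ∈ m := by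
      have h7 : (Ideal.Quotient.mk I s) - (Nat.card Z : MonoidAlgebra k Z ⧸ I) =
          ∑ z : Z, (Ideal.Quotient.mk I (MonoidAlgebra.single z 1) - 1) := by
        rw [Finset.sum_sub_distrib, ← map_sum]
        simp [s]
      rw [h7]
      exact Ideal.sum_mem _ fun z _ => h5 z
    have h7 : Ideal.Quotient.mk I s = 0 := Ideal.Quotient.eq_zero_iff_mem.2 (Ideal.mem_span_singleton_self s)
    rw [h7, zero_sub] at h6
    have h6' := m.neg_mem h6
    rw [neg_neg] at h6'
    have h8 : IsUnit (Nat.card Z : MonoidAlgebra k Z ⧸ I) := by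
      have h9 : (Nat.card Z : MonoidAlgebra k Z ⧸ I) = algebraMap k _ (Nat.card Z : k) := by
        rw [map_natCast]
      rw [h9]
      exact (IsUnit.mk0 _ hk).map _
    exact hm.ne_top (Ideal.eq_top_of_isUnit_mem _ h6' h8))
  obtain ⟨θ', hA, hB⟩ := exists_dual θ hθ
  obtain ⟨θ, rfl⟩ := Ideal.Quotient.mk_surjective θ
  obtain ⟨θ', rfl⟩ := Ideal.Quotient.mk_surjective θ'
  have hT1 : T 1 = τ 1 := by
    rw [MonoidAlgebra.one_def, hT, one_smul]
  have hlift : ∀ (x : MonoidAlgebra k Z) (P : Prop) [Decidable P],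
      (Ideal.Quotient.mk I x = if P then 1 else 0) → T x = if P then T 1 else 0 := by
    intro x P _ hx
    by_cases hP : P
    · rw [if_pos hP] at hx ⊢
      rw [← map_one (Ideal.Quotient.mk I), Ideal.Quotient.eq] at hx
      have := hTI _ hx
      rwa [map_sub, sub_eq_zero] at this
    · rw [if_neg hP] at hx ⊢
      exact hTI _ (Ideal.Quotient.eq_zero_iff_mem.1 hx)
  rw [← hT1]
  refine hfree_of_ring (T : MonoidAlgebra k Z →+ E) (fun a b => map_mul T a b) ρ hTρ θ θ' ?_ ?_
  · intro σ g
    apply hlift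
    rw [← hA σ g, map_sum]
    refine Finset.sum_congr rfl fun x _ => ?_
    rw [map_mul, hmk, hmk]
  · intro σ g
    apply hlift
    rw [← hB σ g, map_sum]
    refine Finset.sum_congr rfl fun x _ => ?_
    rw [map_mul, hmk, hmk]

/-- The same with a commutativity hypothesis. -/
theorem hfree_comm {k Z : Type*} [Field k] [Algebra k E] [inst : Group Z] [Finite Z]
    (hcomm : ∀ a b : Z, a * b = b * a) (α : H →* MulAut Z)
    (hα : ∀ h : H, h ≠ 1 → ∀ z, α h z = z → z = 1) (hk : (Nat.card Z : k) ≠ 0)
    (τ : Z → E) (hτ : ∀ a b, τ (a * b) = τ a * τ b) (ρ : H →* E) (hρ : ∀ h z, ρ h * τ z = τ (α h z) * ρ h)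
    (hs : ∑ᶠ z, τ z = 0) : HFree ρ (τ 1) :=
  @hfree_abelian H E _ _ _ _ k Z _ _ { inst with mul_comm := hcomm } _ α hα hk τ hτ ρ hρ hs

end

end Cfsg.Agent.H583.FreeOp
end

-- part: H583/FreeNil
section
set_option autoImplicit false

namespace Cfsg.Agent.H583.FreeNil

open Cfsg.Agent.H583.FreeOp

section

variable {H E : Type*} [Group H] [Fintype H] [DecidableEq H] [Ring E]

theorem hfree_zero (ρ : H →* E) : HFree ρ 0 :=
  ⟨0, by simp, by simp, by intro g; simp, by simp⟩

theorem hfree_add (ρ : H →* E) {e₁ e₂ : E} (h12 : e₁ * e₂ = 0) (h21 : e₂ * e₁ = 0)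
    (hc₁ : ∀ g, ρ g * e₁ = e₁ * ρ g) (hc₂ : ∀ g, ρ g * e₂ = e₂ * ρ g)
    (h₁ : HFree ρ e₁) (h₂ : HFree ρ e₂) : HFree ρ (e₁ + e₂) := by
  obtain ⟨π₁, ha₁, hb₁, hd₁, hs₁⟩ := h₁
  obtain ⟨π₂, ha₂, hb₂, hd₂, hs₂⟩ := h₂
  have h1 : π₁ * e₂ = 0 := by rw [← ha₁, mul_assoc, h12, mul_zero]
  have h2 : π₂ * e₁ = 0 := by rw [← ha₂, mul_assoc, h21, mul_zero]
  have h3 : e₂ * π₁ = 0 := by rw [← hb₁, ← mul_assoc, h21, zero_mul]
  have h4 : e₁ * π₂ = 0 := by rw [← hb₂, ← mul_assoc, h12, zero_mul]
  have h5 : ∀ g, π₁ * ρ g * π₂ = 0 := by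
    intro g
    rw [← ha₁, mul_assoc π₁, ← hc₁, mul_assoc, mul_assoc, h4, mul_zero, mul_zero]
  have h6 : ∀ g, π₂ * ρ g * π₁ = 0 := by
    intro g
    rw [← ha₂, mul_assoc π₂, ← hc₂, mul_assoc, mul_assoc, h3, mul_zero, mul_zero]
  refine ⟨π₁ + π₂, ?_, ?_, ?_, ?_⟩
  · rw [mul_add, add_mul, add_mul, ha₁, ha₂, h1, h2, add_zero, zero_add]
  · rw [mul_add, add_mul, add_mul, hb₁, hb₂, h3, h4, add_zero, zero_add]
  · intro g
    rw [add_mul, mul_add, add_mul, add_mul, hd₁, hd₂, h5, h6]
    split_ifs <;> simp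
  · rw [← hs₁, ← hs₂, ← Finset.sum_add_distrib]
    refine Finset.sum_congr rfl fun g _ => ?_
    rw [mul_add, add_mul]

end

section Aut

variable {F : Type*} [Group F]

/-- Restriction of automorphisms to a characteristic subgroup. -/
def resAut (Z : Subgroup F) [hZ : Z.Characteristic] : MulAut F →* MulAut Z :=
  have hmem : ∀ (φ : MulAut F) (z : F), z ∈ Z → φ z ∈ Z := fun φ z hz =>
    (Subgroup.characteristic_iff_le_comap.1 hZ φ) hz
  { toFun := fun φ =>
      { toFun := fun z => ⟨φ z, hmem φ z z.2⟩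
        invFun := fun z => ⟨φ⁻¹ z, hmem φ⁻¹ z z.2⟩
        left_inv := fun z => Subtype.ext (by
          change (φ⁻¹ * φ) (z : F) = z
          rw [inv_mul_cancel]; rfl)
        right_inv := fun z => Subtype.ext (by
          change (φ * φ⁻¹) (z : F) = z
          rw [mul_inv_cancel]; rfl)
        map_mul' := fun a b => Subtype.ext (map_mul φ _ _) }
    map_one' := rfl
    map_mul' := fun _ _ => rfl }

theorem resAut_coe (Z : Subgroup F) [Z.Characteristic] (φ : MulAut F) (z : Z) :
    ((resAut Z φ z : Z) : F) = φ z := rfl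

/-- The action of automorphisms on the quotient by a characteristic subgroup. -/
def quotAut (Z : Subgroup F) [hZ : Z.Characteristic] [Z.Normal] : MulAut F →* MulAut (F ⧸ Z) :=
  have hmem : ∀ (φ : MulAut F), Z ≤ Z.comap (φ : F →* F) := fun φ =>
    (Subgroup.characteristic_iff_le_comap.1 hZ φ)
  { toFun := fun φ =>
      { toFun := QuotientGroup.map Z Z (φ : F →* F) (hmem φ)
        invFun := QuotientGroup.map Z Z ((φ⁻¹ : MulAut F) : F →* F) (hmem φ⁻¹)
        left_inv := by
          rintro ⟨x⟩
          change (QuotientGroup.mk ((φ⁻¹ * φ) x) : F ⧸ Z) = QuotientGroup.mk x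
          rw [inv_mul_cancel]; rfl
        right_inv := by
          rintro ⟨x⟩
          change (QuotientGroup.mk ((φ * φ⁻¹) x) : F ⧸ Z) = QuotientGroup.mk x
          rw [mul_inv_cancel]; rfl
        map_mul' := fun a b => map_mul _ a b }
    map_one' := by
      ext ⟨x⟩
      rfl
    map_mul' := by
      intro φ ψ
      ext ⟨x⟩
      rfl }

theorem quotAut_mk (Z : Subgroup F) [Z.Characteristic] [Z.Normal] (φ : MulAut F) (x : F) :
    quotAut Z φ (QuotientGroup.mk x) = QuotientGroup.mk (φ x) := rfl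

/-- A fixed-point-free automorphism of a finite group is fixed-point-free on quotients. -/
theorem quotAut_fpf [Finite F] (Z : Subgroup F) [Z.Characteristic] [Z.Normal] (φ : MulAut F)
    (hφ : ∀ x, φ x = x → x = 1) (q : F ⧸ Z) (hq : quotAut Z φ q = q) : q = 1 := by
  obtain ⟨x, rfl⟩ := QuotientGroup.mk_surjective q
  rw [quotAut_mk, eq_comm, QuotientGroup.eq] at hq
  have hinj : ∀ a b : F, a⁻¹ * φ a = b⁻¹ * φ b → a = b := by
    intro a b hab
    have h1 : φ (a * b⁻¹) = a * b⁻¹ := by
      rw [map_mul, map_inv]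
      have h2 : φ a = a * (b⁻¹ * φ b) := by rw [← hab]; group
      rw [h2]; group
    have h3 := hφ _ h1
    rwa [mul_inv_eq_one] at h3
  let f : Z → Z := fun z => z⁻¹ * resAut Z φ z
  have hf : Function.Injective f := by
    intro a b hab
    apply Subtype.ext
    apply hinj
    exact congrArg Subtype.val hab
  obtain ⟨z, hz⟩ := (Finite.injective_iff_surjective.1 hf) ⟨_, hq⟩
  have h1 : (z : F)⁻¹ * φ z = x⁻¹ * φ x := congrArg Subtype.val hz
  have h2 := hinj _ _ h1
  rw [QuotientGroup.eq_one_iff, ← h2]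
  exact z.2

end Aut

section Nil

variable {H E : Type*} [Group H] [Fintype H] [DecidableEq H] [Ring E] {k : Type*} [Field k] [Algebra k E]

theorem hfree_nilpotent_aux (ρ : H →* E) (F : Type*) [Group F] [hF : Group.IsNilpotent F] :
    Finite F → ∀ (α : H →* MulAut F), (∀ h : H, h ≠ 1 → ∀ z, α h z = z → z = 1) → (Nat.card F : k) ≠ 0 →
    ∀ (τ : F → E), (∀ a b, τ (a * b) = τ a * τ b) → (∀ h z, ρ h * τ z = τ (α h z) * ρ h) →
    ∑ᶠ z, τ z = 0 → HFree ρ (τ 1) := by
  refine Group.nilpotent_center_quotient_ind (P := fun F _ _ =>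
    Finite F → ∀ (α : H →* MulAut F), (∀ h : H, h ≠ 1 → ∀ z, α h z = z → z = 1) → (Nat.card F : k) ≠ 0 →
    ∀ (τ : F → E), (∀ a b, τ (a * b) = τ a * τ b) → (∀ h z, ρ h * τ z = τ (α h z) * ρ h) →
    ∑ᶠ z, τ z = 0 → HFree ρ (τ 1)) F ?_ ?_
  · intro F _ _ _ α hα hk τ hτ hρ hs
    have : (∑ᶠ z, τ z) = τ 1 := by
      have : Unique F := uniqueOfSubsingleton 1
      rw [finsum_unique]
      congr 1
      exact Subsingleton.elim _ _
    rw [← this, hs]
    exact hfree_zero ρ
  · intro F _ _ ih hfin α hα hk τ hτ hρ hs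
    classical
    have := Fintype.ofFinite F
    rw [finsum_eq_sum_of_fintype] at hs
    let Z := Subgroup.center F
    have hZmem : ∀ z : Z, ∀ f : F, f * z = z * f := fun z f => Subgroup.mem_center_iff.1 z.2 f
    have hkZ : (Nat.card Z : k) ≠ 0 := by
      intro h0
      apply hk
      obtain ⟨m, hm⟩ := Subgroup.card_subgroup_dvd_card Z
      rw [hm, Nat.cast_mul, h0, zero_mul]
    let c : k := (Nat.card Z : k)⁻¹
    let s : E := ∑ z : Z, τ z
    let e : E := c • s
    have hτ1 : ∀ f, τ f * τ 1 = τ f := fun f => by rw [← hτ, mul_one]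
    have h1τ : ∀ f, τ 1 * τ f = τ f := fun f => by rw [← hτ, one_mul]
    have hzs : ∀ z : Z, τ z * s = s := by
      intro z
      simp only [s, Finset.mul_sum]
      refine Fintype.sum_equiv (Equiv.mulLeft z) _ _ (fun y => ?_)
      rw [← hτ]; rfl
    have hfs : ∀ f : F, τ f * s = s * τ f := by
      intro f
      simp only [s, Finset.mul_sum, Finset.sum_mul]
      refine Finset.sum_congr rfl fun z _ => ?_
      rw [← hτ, ← hτ, hZmem]
    have hρs : ∀ h, ρ h * s = s * ρ h := by
      intro h
      simp only [s, Finset.mul_sum, Finset.sum_mul]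
      refine Fintype.sum_equiv (resAut Z (α h)).toEquiv _ _ (fun z => ?_)
      rw [hρ]; rfl
    have hze : ∀ z : Z, τ z * e = e := fun z => by
      simp only [e]; rw [mul_smul_comm, hzs]
    have hfe : ∀ f : F, τ f * e = e * τ f := fun f => by
      simp only [e]; rw [mul_smul_comm, hfs, smul_mul_assoc]
    have hρe : ∀ h, ρ h * e = e * ρ h := fun h => by
      simp only [e]; rw [mul_smul_comm, hρs, smul_mul_assoc]
    have hee : e * e = e := by
      have h1 : s * e = (Nat.card Z : k) • e := by
        simp only [s, Finset.sum_mul, hze]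
        rw [Finset.sum_const, Finset.card_univ, ← Nat.card_eq_fintype_card, Nat.cast_smul_eq_nsmul]
      have h2 : e * e = c • (s * e) := by
        rw [← smul_mul_assoc]
      rw [h2, h1, smul_smul, inv_mul_cancel₀ hkZ, one_smul]
    have h1e : τ 1 * e = e := hze 1
    have he1 : e * τ 1 = e := by rw [← hfe, h1e]
    have hρ1 : ∀ h, ρ h * τ 1 = τ 1 * ρ h := fun h => by rw [hρ, map_one]
    -- the quotient part
    have hpart1 : HFree ρ e := by
      let τ' : F ⧸ Z → E := Quotient.lift (fun f : F => τ f * e) (by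
        intro a b hab
        have h1 : a⁻¹ * b ∈ Z := by
          rwa [← QuotientGroup.leftRel_apply]
        change τ a * e = τ b * e
        have h2 : b = a * (⟨a⁻¹ * b, h1⟩ : Z) := by
          change b = a * (a⁻¹ * b)
          group
        rw [h2, hτ, mul_assoc, hze])
      have hτ'mk : ∀ f : F, τ' (QuotientGroup.mk f) = τ f * e := fun _ => rfl
      have hτ'1 : τ' 1 = e := by
        have := hτ'mk 1
        rw [h1e] at this
        exact this
      rw [← hτ'1]
      refine ih inferInstance ((quotAut Z).comp α) ?_ ?_ τ' ?_ ?_ ?_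
      · intro h hh q hq
        exact quotAut_fpf Z (α h) (hα h hh) q hq
      · intro h0
        apply hk
        rw [← Subgroup.card_mul_index Z, Nat.cast_mul]
        have h1 : (Z.index : k) = 0 := h0
        rw [h1, mul_zero]
      · intro a b
        obtain ⟨a, rfl⟩ := QuotientGroup.mk_surjective a
        obtain ⟨b, rfl⟩ := QuotientGroup.mk_surjective b
        rw [← QuotientGroup.mk_mul, hτ'mk, hτ'mk, hτ'mk, hτ]
        calc τ a * τ b * e = τ a * τ b * (e * e) := by rw [hee]
          _ = τ a * (τ b * e) * e := by simp only [mul_assoc]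
          _ = τ a * (e * τ b) * e := by rw [hfe b]
          _ = τ a * e * (τ b * e) := by simp only [mul_assoc]
      · intro h q
        obtain ⟨f, rfl⟩ := QuotientGroup.mk_surjective q
        rw [MonoidHom.comp_apply, quotAut_mk, hτ'mk, hτ'mk, ← mul_assoc, hρ, mul_assoc, hρe, mul_assoc]
      · have := Fintype.ofFinite (F ⧸ Z)
        rw [finsum_eq_sum_of_fintype]
        have h1 : ∑ f : F, τ f * e = (Nat.card Z : k) • ∑ q : F ⧸ Z, τ' q := by
          rw [Finset.smul_sum]
          rw [← Finset.sum_fiberwise_of_maps_to (s := Finset.univ) (t := Finset.univ)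
            (g := fun f : F => (QuotientGroup.mk f : F ⧸ Z)) (fun _ _ => Finset.mem_univ _)]
          refine Finset.sum_congr rfl fun q _ => ?_
          rw [Finset.sum_congr rfl (g := fun _ => τ' q)]
          · rw [Finset.sum_const, Nat.cast_smul_eq_nsmul]
            congr 1
            obtain ⟨f, rfl⟩ := QuotientGroup.mk_surjective q
            rw [Nat.card_eq_fintype_card, ← Fintype.card_subtype]
            refine Fintype.card_congr ?_
            refine ⟨fun y => ⟨f⁻¹ * y, ?_⟩, fun z => ⟨f * z, ?_⟩, ?_, ?_⟩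
            · rw [← QuotientGroup.eq]; exact y.2.symm
            · rw [eq_comm, QuotientGroup.eq, inv_mul_cancel_left]; exact z.2
            · intro y; apply Subtype.ext; simp
            · intro y; apply Subtype.ext; simp
          · intro f hf
            rw [Finset.mem_filter] at hf
            rw [← hf.2, hτ'mk]
        rw [← Finset.sum_mul, hs, zero_mul] at h1
        have h2 := congrArg (fun x => c • x) h1
        simp only [smul_zero, smul_smul] at h2
        rw [inv_mul_cancel₀ hkZ, one_smul] at h2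
        exact h2.symm
    -- the central part
    have hpart2 : HFree ρ (τ 1 - e) := by
      let τ'' : Z → E := fun z => τ z * (τ 1 - e)
      have hd : (τ 1 - e) * (τ 1 - e) = τ 1 - e := by
        rw [mul_sub, sub_mul, sub_mul, hτ1, he1, h1e, hee, sub_self, sub_zero]
      have hτ''1 : τ'' 1 = τ 1 - e := by
        change τ 1 * (τ 1 - e) = _
        rw [mul_sub, hτ1, h1e]
      have hdc : ∀ f : F, τ f * (τ 1 - e) = (τ 1 - e) * τ f := by
        intro f
        rw [mul_sub, sub_mul, hτ1, h1τ, hfe]
      rw [← hτ''1]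
      refine hfree_comm (k := k) (Z := Z) (fun a b => Subtype.ext (hZmem b a)) ((resAut Z).comp α)
        ?_ hkZ τ'' ?_ ρ ?_ ?_
      · intro h hh z hz
        have h1 : α h z = z := congrArg Subtype.val hz
        exact Subtype.ext (hα h hh _ h1)
      · intro a b
        change τ (a * b) * (τ 1 - e) = τ a * (τ 1 - e) * (τ b * (τ 1 - e))
        calc τ ((a : F) * b) * (τ 1 - e) = τ a * τ b * ((τ 1 - e) * (τ 1 - e)) := by rw [hd, hτ]
          _ = τ a * (τ b * (τ 1 - e)) * (τ 1 - e) := by simp only [mul_assoc]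
          _ = τ a * ((τ 1 - e) * τ b) * (τ 1 - e) := by rw [hdc b]
          _ = τ a * (τ 1 - e) * (τ b * (τ 1 - e)) := by simp only [mul_assoc]
      · intro h z
        change ρ h * (τ z * (τ 1 - e)) = τ (α h z) * (τ 1 - e) * ρ h
        rw [← mul_assoc, hρ, mul_assoc, mul_assoc, mul_sub, sub_mul, hρ1, hρe]
      · rw [finsum_eq_sum_of_fintype]
        change ∑ z : Z, τ z * (τ 1 - e) = 0
        rw [← Finset.sum_mul]
        change s * (τ 1 - e) = 0
        have h1 : s = (Nat.card Z : k) • e := by
          simp only [e, smul_smul]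
          rw [mul_inv_cancel₀ hkZ, one_smul]
        rw [h1, smul_mul_assoc, mul_sub, he1, hee, sub_self, smul_zero]
    have hsum : τ 1 = e + (τ 1 - e) := by rw [add_sub_cancel]
    rw [hsum]
    refine hfree_add ρ ?_ ?_ hρe ?_ hpart1 hpart2
    · rw [mul_sub, he1, hee, sub_self]
    · rw [sub_mul, h1e, hee, sub_self]
    · intro g
      rw [mul_sub, sub_mul, hρ1, hρe]

end Nil

end Cfsg.Agent.H583.FreeNil
end
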