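import Cfsg.Agent.H583.ColApi
set_option linter.all false

-- part: H583/ColSets
section
/-!
# Two-colourings with small stabilisers: sets (helper583)
-/

set_option autoImplicit false

universe u w

namespace Cfsg.Agent.H583.Col

open MulAction
open scoped Pointwise commutatorElement

variable {G : Type u} {Ω : Type w} [Group G] [MulAction G Ω]

/-- every subgroup which preserves `D` has derived length at most 3 -/
def Good (G : Type u) {Ω : Type w} [Group G] [MulAction G Ω] (D : Set Ω) : Prop :=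
  ∀ S : Subgroup G, (∀ g ∈ S, ∀ ω, g • ω ∈ D ↔ ω ∈ D) → derivedSeries S 3 = ⊥

theorem Good.compl {D : Set Ω} (h : Good G D) : Good G Dᶜ := by
  intro S hS
  refine h S (fun g hg ω => ?_)
  have := hS g hg ω
  rwa [Set.mem_compl_iff, Set.mem_compl_iff, not_iff_not] at this

/-- the target for two colours -/
def Five2 (G : Type u) (Ω : Type w) [Group G] [MulAction G Ω] : Prop :=
  ∃ c : Fin 5 → Ω → Fin 2, (∀ i j, i ≠ j → ∀ g : G, ¬ ∀ ω, c i (g • ω) = c j ω) ∧
    ∀ i, ∀ S : Subgroup G, (∀ g ∈ S, ∀ ω, c i (g • ω) = c i ω) → derivedSeries S 3 = ⊥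

theorem five_of_sets (D : Fin 5 → Set Ω)
    (hcard : ∀ i j, i ≠ j → (D i).ncard ≠ (D j).ncard) (hgood : ∀ i, Good G (D i)) :
    Five2 G Ω := by
  classical
  refine ⟨fun i ω => if ω ∈ D i then 1 else 0, ?_, ?_⟩
  · intro i j hij g hg
    apply hcard i j hij
    have h1 : ∀ ω, g • ω ∈ D i ↔ ω ∈ D j := by
      intro ω
      have h2 := hg ω
      by_cases ha : g • ω ∈ D i <;> by_cases hb : ω ∈ D j <;> simp_all
    have h3 : D i = g • D j := by
      ext x
      rw [Set.mem_smul_set_iff_inv_smul_mem, ← h1, smul_inv_smul]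
    rw [h3, Set.ncard_smul_set]
  · intro i S hS
    refine hgood i S (fun g hg ω => ?_)
    have h2 := hS g hg ω
    by_cases ha : g • ω ∈ D i <;> by_cases hb : ω ∈ D i <;> simp_all

variable {r k : ℕ} (C : Coord G Ω r k)

/-- the points of the affine basis -/
def Coord.basisSet : Set Ω :=
  insert (C.e.symm 0) (Set.range (fun i : Fin k => C.e.symm (Pi.single i 1)))

theorem Coord.basisSet_finite : C.basisSet.Finite := (Set.finite_range _).insert _

theorem Coord.basisSet_ncard : C.basisSet.ncard ≤ k + 1 := by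
  refine (Set.ncard_insert_le _ _).trans ?_
  have h1 : (Set.range (fun i : Fin k => C.e.symm (Pi.single i 1))).ncard ≤ k := by
    rw [← Set.image_univ]
    refine (Set.ncard_image_le (Set.finite_univ)).trans ?_
    rw [Set.ncard_univ, Nat.card_fin]
  omega

/-- subgroups for which every basis point lies in a small invariant set -/
theorem ds_of_cover [FaithfulSMul G Ω] [Group.IsSolvable G] (S : Subgroup G)
    (h : ∀ x ∈ C.basisSet, ∃ D : Set Ω, x ∈ D ∧ D.Finite ∧ D.ncard ≤ 7 ∧
      ∀ g ∈ S, ∀ y ∈ D, g • y ∈ D) : derivedSeries S 3 = ⊥ := by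
  rw [eq_bot_iff]
  intro g hg
  rw [Subgroup.mem_bot]
  have h1 : ∀ x ∈ C.basisSet, (g : G) • x = x := by
    intro x hx
    obtain ⟨D, hxD, hfin, h7, hD⟩ := h x hx
    exact tri_seven_set (G := S) D hfin h7 (fun s y hy => hD s s.2 y hy) hg hxD
  apply Subtype.ext
  apply FaithfulSMul.eq_of_smul_eq_smul (α := Ω)
  intro ω
  rw [Subgroup.coe_one, one_smul]
  exact C.smul_eq_of_basis (h1 _ (Set.mem_insert _ _))
    (fun i => h1 _ (Set.mem_insert_of_mem _ ⟨i, rfl⟩)) ω

theorem good_of_seven [FaithfulSMul G Ω] [Group.IsSolvable G] {D : Set Ω} (hD : C.basisSet ⊆ D)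
    (hfin : D.Finite) (h7 : D.ncard ≤ 7) : Good G D := by
  intro S hS
  exact ds_of_cover C S (fun x hx => ⟨D, hD hx, hfin, h7, fun g hg y hy => (hS g hg y).mpr hy⟩)

include C in
theorem exists_good [FaithfulSMul G Ω] [Group.IsSolvable G] [Finite Ω] {s : ℕ} (h1 : k + 1 ≤ s)
    (h2 : s ≤ Nat.card Ω) (h3 : s ≤ 7) : ∃ D : Set Ω, D.ncard = s ∧ Good G D := by
  classical
  have : Fintype Ω := Fintype.ofFinite Ω
  obtain ⟨t, ht1, -, ht2⟩ := Finset.exists_subsuperset_card_eq
    (s := (C.basisSet_finite.toFinset)) (t := Finset.univ) (Finset.subset_univ _) (n := s)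
    (by rw [← Set.ncard_eq_toFinset_card _ C.basisSet_finite]
        exact C.basisSet_ncard.trans h1)
    (by rw [Finset.card_univ, ← Nat.card_eq_fintype_card]; exact h2)
  refine ⟨t, by rw [Set.ncard_coe_finset, ht2], good_of_seven C ?_ (Finset.finite_toSet t) ?_⟩
  · intro x hx
    exact ht1 (by simpa using hx)
  · rw [Set.ncard_coe_finset, ht2]; exact h3

include C in
theorem exists_good_compl [FaithfulSMul G Ω] [Group.IsSolvable G] [Finite Ω] {s : ℕ}
    (h1 : k + 1 ≤ s) (h2 : s ≤ Nat.card Ω) (h3 : s ≤ 7) :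
    ∃ D : Set Ω, D.ncard = Nat.card Ω - s ∧ Good G D := by
  obtain ⟨D, hD, hg⟩ := exists_good (G := G) C h1 h2 h3
  exact ⟨Dᶜ, by rw [Set.ncard_compl, hD], hg.compl⟩

theorem five_of_sizes (s : Fin 5 → ℕ) (hs : ∀ i j, i ≠ j → s i ≠ s j)
    (h : ∀ i, ∃ D : Set Ω, D.ncard = s i ∧ Good G D) : Five2 G Ω := by
  choose D hD hg using h
  exact five_of_sets D (fun i j hij => by rw [hD, hD]; exact hs i j hij) hg

include C in
/-- dimension at most four -/
theorem five_small [FaithfulSMul G Ω] [Group.IsSolvable G] [Finite Ω] (hr : r.Prime)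
    (hk : k ≤ 4) (hn : 5 ≤ Nat.card Ω) : Five2 G Ω := by
  have hc := C.card_eq hr
  set n := Nat.card Ω with hndef
  by_cases hk2 : k ≤ 2
  · by_cases hn7 : n ≤ 6
    · refine five_of_sizes ![1, 2, 3, 4, 5] (by decide) (fun i => ?_)
      fin_cases i
      · obtain ⟨D, hD, hg⟩ := exists_good_compl (G := G) C (s := n - 1) (by omega) (by omega)
          (by omega)
        exact ⟨D, by rw [hD]; simp; omega, hg⟩
      · obtain ⟨D, hD, hg⟩ := exists_good_compl (G := G) C (s := n - 2) (by omega) (by omega)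
          (by omega)
        exact ⟨D, by rw [hD]; simp; omega, hg⟩
      · exact exists_good (G := G) C (s := 3) (by omega) (by omega) (by omega)
      · exact exists_good (G := G) C (s := 4) (by omega) (by omega) (by omega)
      · exact exists_good (G := G) C (s := 5) (by omega) (by omega) (by omega)
    · refine five_of_sizes ![3, 4, 5, 6, 7] (by decide) (fun i => ?_)
      fin_cases i
      · exact exists_good (G := G) C (s := 3) (by omega) (by omega) (by omega)
      · exact exists_good (G := G) C (s := 4) (by omega) (by omega) (by omega)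
      · exact exists_good (G := G) C (s := 5) (by omega) (by omega) (by omega)
      · exact exists_good (G := G) C (s := 6) (by omega) (by omega) (by omega)
      · exact exists_good (G := G) C (s := 7) (by omega) (by omega) (by omega)
  · have hn8 : n = 8 ∨ 16 ≤ n := by
      have hr2 := hr.two_le
      have hk3 : k = 3 ∨ k = 4 := by omega
      rcases hk3 with rfl | rfl
      · by_cases h2 : r = 2
        · left; rw [hc, h2]; norm_num
        · right
          have h3 : 3 ≤ r := by omega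
          rw [hc]
          calc 16 ≤ 3 ^ 3 := by norm_num
            _ ≤ r ^ 3 := Nat.pow_le_pow_left h3 3
      · right
        rw [hc]
        calc 16 ≤ 2 ^ 4 := by norm_num
          _ ≤ r ^ 4 := Nat.pow_le_pow_left hr2 4
    refine five_of_sizes ![5, 6, 7, n - 5, n - 6] ?_ (fun i => ?_)
    · intro i j hij
      fin_cases i <;> fin_cases j <;> first | exact absurd rfl hij | (simp <;> omega)
    · fin_cases i
      · exact exists_good (G := G) C (s := 5) (by omega) (by omega) (by omega)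
      · exact exists_good (G := G) C (s := 6) (by omega) (by omega) (by omega)
      · exact exists_good (G := G) C (s := 7) (by omega) (by omega) (by omega)
      · exact exists_good_compl (G := G) C (s := 5) (by omega) (by omega) (by omega)
      · exact exists_good_compl (G := G) C (s := 6) (by omega) (by omega) (by omega)

end Cfsg.Agent.H583.Col
end

-- part: H583/ColCount
section
/-!
# Rigid two-colourings by counting (helper583)
-/

set_option autoImplicit false

universe u w

namespace Cfsg.Agent.H583.Col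

open MulAction

/-- two fixed colourings which agree on `{x ≤ σ x}` are equal -/
theorem agree_le {n : ℕ} (σ : Fin n → Fin n) {A : Type*} (c c' : Fin n → A)
    (hc : ∀ x, c (σ x) = c x) (hc' : ∀ x, c' (σ x) = c' x)
    (h : ∀ x, x ≤ σ x → c x = c' x) (x : Fin n) : c x = c' x := by
  induction x using WellFoundedLT.induction with
  | _ x ih =>
    by_cases hx : x ≤ σ x
    · exact h x hx
    · rw [← hc x, ← hc' x]
      exact ih _ (not_le.mp hx)

theorem agree_ge {n : ℕ} (σ : Fin n → Fin n) {A : Type*} (c c' : Fin n → A)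
    (hc : ∀ x, c (σ x) = c x) (hc' : ∀ x, c' (σ x) = c' x)
    (h : ∀ x, σ x ≤ x → c x = c' x) (x : Fin n) : c x = c' x := by
  induction x using WellFoundedGT.induction with
  | _ x ih =>
    by_cases hx : σ x ≤ x
    · exact h x hx
    · rw [← hc x, ← hc' x]
      exact ih _ (not_le.mp hx)

theorem card_fixed_le {n : ℕ} (σ : Fin n → Fin n) {m : ℕ}
    (hm : n + (Finset.univ.filter (fun x => σ x = x)).card ≤ 2 * m + 1) :
    (Finset.univ.filter (fun c : Fin n → Fin 2 => ∀ x, c (σ x) = c x)).card ≤ 2 ^ m := by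
  classical
  let A : Finset (Fin n) := Finset.univ.filter (fun x => x ≤ σ x)
  let B : Finset (Fin n) := Finset.univ.filter (fun x => σ x ≤ x)
  have hAB : A.card + B.card = n + (Finset.univ.filter (fun x => σ x = x)).card := by
    have h1 := Finset.card_union_add_card_inter A B
    have h2 : A ∪ B = Finset.univ := by
      ext x
      simp only [A, B, Finset.mem_union, Finset.mem_filter, Finset.mem_univ, true_and, iff_true]
      exact le_total _ _
    have h3 : A ∩ B = Finset.univ.filter (fun x => σ x = x) := by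
      ext x
      simp only [A, B, Finset.mem_inter, Finset.mem_filter, Finset.mem_univ, true_and]
      exact ⟨fun h => le_antisymm h.2 h.1, fun h => ⟨h.ge, h.le⟩⟩
    rw [h2, h3, Finset.card_univ, Fintype.card_fin] at h1
    exact h1.symm
  have key : ∀ S : Finset (Fin n), S.card ≤ m →
      (∀ c c' : Fin n → Fin 2, (∀ x, c (σ x) = c x) → (∀ x, c' (σ x) = c' x) →
        (∀ x ∈ S, c x = c' x) → ∀ x, c x = c' x) →
      (Finset.univ.filter (fun c : Fin n → Fin 2 => ∀ x, c (σ x) = c x)).card ≤ 2 ^ m := by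
    intro S hS h
    have h1 : (Finset.univ.filter (fun c : Fin n → Fin 2 => ∀ x, c (σ x) = c x)).card ≤
        (Finset.univ : Finset (S → Fin 2)).card := by
      refine Finset.card_le_card_of_injOn (fun c x => c x) (fun c _ => Finset.mem_univ _) ?_
      intro c hc c' hc' hcc
      simp only [Finset.coe_filter, Finset.mem_univ, true_and, Set.mem_ofPred_eq] at hc hc'
      funext x
      exact h c c' hc hc' (fun x hx => congrFun hcc ⟨x, hx⟩) x
    refine h1.trans ?_
    rw [Finset.card_univ, Fintype.card_fun, Fintype.card_fin, Fintype.card_coe]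
    exact Nat.pow_le_pow_right (by norm_num) hS
  by_cases hA : A.card ≤ m
  · refine key A hA (fun c c' hc hc' h => agree_le σ c c' hc hc' (fun x hx => h x ?_))
    simpa [A] using hx
  · refine key B (by omega) (fun c c' hc hc' h => agree_ge σ c c' hc hc' (fun x hx => h x ?_))
    simpa [B] using hx

variable {G : Type u} {Ω : Type w} [Group G] [MulAction G Ω]

theorem card_fixed_col [Finite Ω] (g : G) {m : ℕ}
    (hm : Nat.card Ω + Nat.card {ω : Ω // g • ω = ω} ≤ 2 * m + 1) :
    Nat.card {c : Ω → Fin 2 // ∀ ω, c (g • ω) = c ω} ≤ 2 ^ m := by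
  classical
  let e := Finite.equivFin Ω
  let σ : Fin (Nat.card Ω) → Fin (Nat.card Ω) := fun x => e (g • e.symm x)
  have h1 : Nat.card {ω : Ω // g • ω = ω} = (Finset.univ.filter (fun x => σ x = x)).card := by
    rw [← Fintype.card_subtype, ← Nat.card_eq_fintype_card]
    refine Nat.card_congr (Equiv.subtypeEquiv e (fun ω => ?_))
    simp only [σ, Equiv.symm_apply_apply, EmbeddingLike.apply_eq_iff_eq]
  have h2 : Nat.card {c : Ω → Fin 2 // ∀ ω, c (g • ω) = c ω} =
      (Finset.univ.filter (fun c : Fin (Nat.card Ω) → Fin 2 => ∀ x, c (σ x) = c x)).card := by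
    rw [← Fintype.card_subtype, ← Nat.card_eq_fintype_card]
    refine Nat.card_congr (Equiv.subtypeEquiv (Equiv.arrowCongr e (Equiv.refl _)) (fun c => ?_))
    simp only [σ, Equiv.arrowCongr_apply, Function.comp_apply, Equiv.symm_apply_apply,
      Equiv.coe_refl, id]
    constructor
    · intro h x
      exact h _
    · intro h ω
      have := h (e ω)
      rwa [Equiv.symm_apply_apply] at this
  rw [h2]
  exact card_fixed_le σ (by rw [← h1]; exact hm)

/-- a rigid colouring -/
def IsRigid (G : Type u) {Ω : Type w} [Group G] [MulAction G Ω] {A : Type*} (c : Ω → A) : Prop :=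
  ∀ g : G, (∀ ω, c (g • ω) = c ω) → g = 1

/-- five inequivalent rigid colourings -/
def FiveR (G : Type u) (Ω : Type w) [Group G] [MulAction G Ω] (A : Type) : Prop :=
  ∃ c : Fin 5 → Ω → A, (∀ i, IsRigid G (c i)) ∧
    ∀ i j, i ≠ j → ∀ g : G, ¬ ∀ ω, c i (g • ω) = c j ω

theorem FiveR.five2 (h : FiveR G Ω (Fin 2)) : Five2 G Ω := by
  obtain ⟨c, h1, h2⟩ := h
  refine ⟨c, h2, fun i S hS => ?_⟩
  rw [eq_bot_iff]
  intro g _
  rw [Subgroup.mem_bot]
  exact Subtype.ext (h1 i g (hS g g.2))

theorem card_rigid [Finite G] [Finite Ω] {m : ℕ}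
    (hm : ∀ g : G, g ≠ 1 → Nat.card Ω + Nat.card {ω : Ω // g • ω = ω} ≤ 2 * m + 1) :
    2 ^ Nat.card Ω ≤ Nat.card {c : Ω → Fin 2 // IsRigid G c} + Nat.card G * 2 ^ m := by
  classical
  have : Fintype Ω := Fintype.ofFinite Ω
  have : Fintype G := Fintype.ofFinite G
  let R : Finset (Ω → Fin 2) := Finset.univ.filter (fun c => IsRigid G c)
  let F : G → Finset (Ω → Fin 2) := fun g => Finset.univ.filter (fun c => ∀ ω, c (g • ω) = c ω)
  have h1 : (Finset.univ : Finset (Ω → Fin 2)) ⊆
      R ∪ (Finset.univ.filter (fun g : G => g ≠ 1)).biUnion F := by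
    intro c _
    by_cases hc : IsRigid G c
    · exact Finset.mem_union_left _ (by simpa [R] using hc)
    · refine Finset.mem_union_right _ ?_
      unfold IsRigid at hc
      push Not at hc
      obtain ⟨g, hg, hg1⟩ := hc
      rw [Finset.mem_biUnion]
      exact ⟨g, by simpa using hg1, by simpa [F] using hg⟩
  have h2 := Finset.card_le_card h1
  have h3 : ((Finset.univ.filter (fun g : G => g ≠ 1)).biUnion F).card ≤ Nat.card G * 2 ^ m := by
    refine (Finset.card_biUnion_le).trans ?_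
    refine (Finset.sum_le_card_nsmul _ _ (2 ^ m) (fun g hg => ?_)).trans ?_
    · have hg' : g ≠ 1 := by simpa using hg
      have := card_fixed_col g (hm g hg')
      rw [Nat.card_eq_fintype_card, Fintype.card_subtype] at this
      exact this
    · rw [smul_eq_mul, Nat.card_eq_fintype_card]
      exact Nat.mul_le_mul_right _ (Finset.card_le_univ _)
  have h4 : R.card = Nat.card {c : Ω → Fin 2 // IsRigid G c} := by
    rw [Nat.card_eq_fintype_card, Fintype.card_subtype]
  rw [Finset.card_univ, Fintype.card_fun, Fintype.card_fin] at h2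
  rw [Nat.card_eq_fintype_card (α := Ω), ← h4]
  exact h2.trans ((Finset.card_union_le _ _).trans (Nat.add_le_add_left h3 _))

/-- the orbit relation on rigid colourings -/
def rigSetoid (G : Type u) (Ω : Type w) [Group G] [MulAction G Ω] (A : Type) :
    Setoid {c : Ω → A // IsRigid G c} where
  r c c' := ∃ g : G, ∀ ω, c.1 (g • ω) = c'.1 ω
  iseqv :=
    { refl := fun c => ⟨1, fun ω => by rw [one_smul]⟩
      symm := by
        rintro c c' ⟨g, hg⟩
        exact ⟨g⁻¹, fun ω => by rw [← hg, smul_inv_smul]⟩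
      trans := by
        rintro c c' c'' ⟨g, hg⟩ ⟨h, hh⟩
        exact ⟨g * h, fun ω => by rw [mul_smul, hg, hh]⟩ }

theorem five_of_count [Finite G] [Finite Ω] {m : ℕ}
    (hm : ∀ g : G, g ≠ 1 → Nat.card Ω + Nat.card {ω : Ω // g • ω = ω} ≤ 2 * m + 1)
    (hG : Nat.card G * (2 ^ m + 5) ≤ 2 ^ Nat.card Ω) : FiveR G Ω (Fin 2) := by
  classical
  have h1 := card_rigid hm
  let s := rigSetoid G Ω (Fin 2)
  let f : Quotient s × G → {c : Ω → Fin 2 // IsRigid G c} := fun p =>
    ⟨fun ω => (Quotient.out p.1).1 (p.2 • ω), by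
      intro g hg
      have h2 := (Quotient.out p.1).2 (p.2 * g * p.2⁻¹) (fun ω => by
        have := hg (p.2⁻¹ • ω)
        simp only at this
        rw [smul_inv_smul] at this
        rw [mul_smul, mul_smul, this])
      rwa [conj_eq_one_iff] at h2⟩
  have hf : Function.Surjective f := by
    intro c
    have h2 : Quotient.out (Quotient.mk s c) ≈ c := Quotient.mk_out c
    obtain ⟨g, hg⟩ := h2
    exact ⟨(Quotient.mk s c, g), Subtype.ext (funext hg)⟩
  have h3 : Nat.card {c : Ω → Fin 2 // IsRigid G c} ≤ Nat.card (Quotient s) * Nat.card G := by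
    rw [← Nat.card_prod]
    exact Nat.card_le_card_of_surjective f hf
  have hGpos : 0 < Nat.card G := Nat.card_pos
  have h5 : 5 ≤ Nat.card (Quotient s) := by
    by_contra hlt
    have h6 : Nat.card (Quotient s) * Nat.card G ≤ 4 * Nat.card G :=
      Nat.mul_le_mul_right _ (by omega)
    nlinarith
  have hfinq : Finite (Quotient s) := inferInstance
  let e := Finite.equivFin (Quotient s)
  let ι : Fin 5 → Quotient s := fun i => e.symm (Fin.castLE h5 i)
  have hι : Function.Injective ι := fun i j h => Fin.castLE_injective h5 (e.symm.injective h)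
  refine ⟨fun i => (Quotient.out (ι i)).1, fun i => (Quotient.out (ι i)).2, ?_⟩
  intro i j hij g hg
  apply hij
  apply hι
  rw [← Quotient.out_eq (ι i), ← Quotient.out_eq (ι j)]
  exact Quotient.sound ⟨g, hg⟩

end Cfsg.Agent.H583.Col
end

-- part: H583/ColTwo
section
/-!
# Two-colourings with small stabilisers: dimensions 5 to 9 over the field of two elements
(helper583)
-/

set_option autoImplicit false

universe u w

namespace Cfsg.Agent.H583.Col

open MulAction
open scoped Pointwise commutatorElement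

variable {G : Type u} {Ω : Type w} [Group G] [MulAction G Ω]

section Cop

variable {k : ℕ} (C : Coord G Ω 2 k)

theorem two_add (x : Fin k → ZMod 2) : x + x = 0 := by
  funext i
  rw [Pi.add_apply, Pi.zero_apply]
  exact CharTwo.add_self_eq_zero _

/-- the points of `D` which are sums of three distinct points of `D` -/
def Coord.cop (D : Set Ω) : Set Ω :=
  {x | x ∈ D ∧ ∃ a ∈ D, ∃ b ∈ D, ∃ c ∈ D, a ≠ b ∧ a ≠ c ∧ b ≠ c ∧ C.e x = C.e a + C.e b + C.e c}

theorem Coord.cop_inv {D : Set Ω} {g : G} (hg : ∀ ω, g • ω ∈ D ↔ ω ∈ D) {x : Ω}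
    (hx : x ∈ C.cop D) : g • x ∈ C.cop D := by
  obtain ⟨hxD, a, ha, b, hb, c, hc, hab, hac, hbc, h⟩ := hx
  refine ⟨(hg x).mpr hxD, g • a, (hg a).mpr ha, g • b, (hg b).mpr hb, g • c, (hg c).mpr hc,
    fun h => hab (smul_left_cancel g h), fun h => hac (smul_left_cancel g h),
    fun h => hbc (smul_left_cancel g h), ?_⟩
  rw [C.smul, C.smul, C.smul, C.smul, h, map_add, map_add]
  have h1 := two_add (C.t g)
  calc C.T g (C.e a) + C.T g (C.e b) + C.T g (C.e c) + C.t g
      = C.T g (C.e a) + C.T g (C.e b) + C.T g (C.e c) + C.t g + (C.t g + C.t g) := by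
        rw [h1, add_zero]
    _ = _ := by abel

/-- the criterion -/
theorem good_of_cop [FaithfulSMul G Ω] [Group.IsSolvable G] {D : Set Ω} (hD : C.basisSet ⊆ D)
    (hfin : D.Finite) (h1 : (C.cop D).ncard ≤ 7) (h2 : (D \ C.cop D).ncard ≤ 7) : Good G D := by
  intro S hS
  refine ds_of_cover C S (fun x hx => ?_)
  by_cases hxc : x ∈ C.cop D
  · exact ⟨C.cop D, hxc, hfin.subset (fun y hy => hy.1), h1,
      fun g hg y hy => C.cop_inv (hS g hg) hy⟩
  · refine ⟨D \ C.cop D, ⟨hD hx, hxc⟩, hfin.subset Set.sdiff_subset, h2, fun g hg y hy => ?_⟩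
    refine ⟨(hS g hg y).mpr hy.1, fun h => hy.2 ?_⟩
    have h3 := C.cop_inv (hS g⁻¹ (S.inv_mem hg)) h
    rwa [inv_smul_smul] at h3

end Cop

/-- extension by zero -/
def ext3 (m : ℕ) (x : Fin 3 → ZMod 2) : Fin (3 + m) → ZMod 2 := Fin.append x 0

/-- the other basis vectors -/
def uvec (m : ℕ) (j : Fin m) : Fin (3 + m) → ZMod 2 := Pi.single (Fin.natAdd 3 j) 1

theorem ext3_left (m : ℕ) (x : Fin 3 → ZMod 2) (i : Fin 3) :
    ext3 m x (Fin.castAdd m i) = x i := Fin.append_left _ _ _

theorem ext3_right (m : ℕ) (x : Fin 3 → ZMod 2) (j : Fin m) :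
    ext3 m x (Fin.natAdd 3 j) = 0 := by
  unfold ext3
  rw [Fin.append_right]; rfl

theorem ext3_inj (m : ℕ) : Function.Injective (ext3 m) := by
  intro x y h
  funext i
  rw [← ext3_left m x, h, ext3_left]

theorem ext3_add (m : ℕ) (x y : Fin 3 → ZMod 2) : ext3 m (x + y) = ext3 m x + ext3 m y := by
  funext i
  refine Fin.addCases (fun i => ?_) (fun j => ?_) i
  · rw [ext3_left, Pi.add_apply, Pi.add_apply, ext3_left, ext3_left]
  · rw [ext3_right, Pi.add_apply, ext3_right, ext3_right, add_zero]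

theorem ext3_zero (m : ℕ) : ext3 m 0 = 0 := by
  funext i
  refine Fin.addCases (fun i => ?_) (fun j => ?_) i
  · rw [ext3_left]; rfl
  · rw [ext3_right]; rfl

theorem ext3_single (m : ℕ) (i : Fin 3) :
    ext3 m (Pi.single i 1) = Pi.single (Fin.castAdd m i) 1 := by
  funext j
  refine Fin.addCases (fun j => ?_) (fun j => ?_) j
  · rw [ext3_left, Pi.single_apply, Pi.single_apply]
    simp
  · rw [ext3_right, Pi.single_apply, if_neg]
    intro h
    have := congrArg Fin.val h
    simp at this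
    omega

theorem uvec_inj (m : ℕ) : Function.Injective (uvec m) := by
  intro i j h
  by_contra hij
  have h1 : uvec m i (Fin.natAdd 3 i) = 1 := by unfold uvec; simp
  have h2 : uvec m j (Fin.natAdd 3 i) = 0 := by
    unfold uvec
    rw [Pi.single_apply, if_neg]
    intro h; exact hij (Fin.natAdd_injective m 3 h)
  rw [h, h2] at h1
  exact zero_ne_one h1

theorem uvec_self (m : ℕ) (j : Fin m) : uvec m j (Fin.natAdd 3 j) = 1 := by
  unfold uvec; simp

theorem uvec_ne (m : ℕ) {i j : Fin m} (h : i ≠ j) : uvec m i (Fin.natAdd 3 j) = 0 := by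
  unfold uvec
  rw [Pi.single_apply, if_neg]
  intro h'; exact h (Fin.natAdd_injective m 3 h').symm

theorem ext3_ne_uvec (m : ℕ) (x : Fin 3 → ZMod 2) (j : Fin m) : ext3 m x ≠ uvec m j := by
  intro h
  have h1 := congrFun h (Fin.natAdd 3 j)
  rw [ext3_right, uvec_self] at h1
  exact zero_ne_one h1

/-- the set `E` -/
def Eset (m : ℕ) (D0 : Finset (Fin 3 → ZMod 2)) : Set (Fin (3 + m) → ZMod 2) :=
  (ext3 m '' D0) ∪ Set.range (uvec m)

theorem Eset_coord {m : ℕ} {D0 : Finset (Fin 3 → ZMod 2)} {x : Fin (3 + m) → ZMod 2}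
    (hx : x ∈ Eset m D0) {j : Fin m} (hne : x ≠ uvec m j) : x (Fin.natAdd 3 j) = 0 := by
  rcases hx with ⟨y, -, rfl⟩ | ⟨i, rfl⟩
  · exact ext3_right _ _ _
  · exact uvec_ne m (fun h => hne (by rw [h]))

/-- sums of three distinct points of `E` which belong to `E` -/
theorem Eset_sum {m : ℕ} {D0 : Finset (Fin 3 → ZMod 2)} {x a b c : Fin (3 + m) → ZMod 2}
    (hx : x ∈ Eset m D0) (ha : a ∈ Eset m D0) (hb : b ∈ Eset m D0) (hc : c ∈ Eset m D0)
    (hab : a ≠ b) (hac : a ≠ c) (hbc : b ≠ c) (h : x = a + b + c) :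
    ∃ x' ∈ D0, ∃ a' ∈ D0, ∃ b' ∈ D0, ∃ c' ∈ D0, a' ≠ b' ∧ a' ≠ c' ∧ b' ≠ c' ∧ x' = a' + b' + c' ∧
      x = ext3 m x' := by
  -- none of the four points is a `uvec`
  have hcoord : ∀ j, x (Fin.natAdd 3 j) = a (Fin.natAdd 3 j) + b (Fin.natAdd 3 j) +
      c (Fin.natAdd 3 j) := fun j => by rw [h]; rfl
  have hxa : x ≠ a := by
    intro hxa
    rw [hxa, add_assoc] at h
    have h1 : b + c = 0 := left_eq_add.mp h
    apply hbc
    rw [← two_add c] at h1
    exact add_right_cancel h1
  have hxb : x ≠ b := by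
    intro hxb
    rw [hxb, add_comm a b, add_assoc] at h
    have h1 : a + c = 0 := left_eq_add.mp h
    apply hac
    rw [← two_add c] at h1
    exact add_right_cancel h1
  have hxc : x ≠ c := by
    intro hxc
    rw [hxc] at h
    have h1 : a + b = 0 := right_eq_add.mp h
    apply hab
    rw [← two_add b] at h1
    exact add_right_cancel h1
  have key : ∀ j, x ≠ uvec m j ∧ a ≠ uvec m j ∧ b ≠ uvec m j ∧ c ≠ uvec m j := by
    intro j
    have h0 := hcoord j
    refine ⟨fun e => ?_, fun e => ?_, fun e => ?_, fun e => ?_⟩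
    · rw [Eset_coord ha (j := j) (fun e' => hxa (e.trans e'.symm)),
        Eset_coord hb (j := j) (fun e' => hxb (e.trans e'.symm)),
        Eset_coord hc (j := j) (fun e' => hxc (e.trans e'.symm)), e, uvec_self] at h0
      exact absurd h0 (by decide)
    · rw [Eset_coord hx (j := j) (fun e' => hxa (e'.trans e.symm)),
        Eset_coord hb (j := j) (fun e' => hab (e.trans e'.symm)),
        Eset_coord hc (j := j) (fun e' => hac (e.trans e'.symm)), e, uvec_self] at h0
      exact absurd h0 (by decide)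
    · rw [Eset_coord hx (j := j) (fun e' => hxb (e'.trans e.symm)),
        Eset_coord ha (j := j) (fun e' => hab (e'.trans e.symm)),
        Eset_coord hc (j := j) (fun e' => hbc (e.trans e'.symm)), e, uvec_self] at h0
      exact absurd h0 (by decide)
    · rw [Eset_coord hx (j := j) (fun e' => hxc (e'.trans e.symm)),
        Eset_coord ha (j := j) (fun e' => hac (e'.trans e.symm)),
        Eset_coord hb (j := j) (fun e' => hbc (e'.trans e.symm)), e, uvec_self] at h0
      exact absurd h0 (by decide)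
  have hmem : ∀ y ∈ Eset m D0, (∀ j, y ≠ uvec m j) → ∃ y' ∈ D0, ext3 m y' = y := by
    rintro y (⟨y', hy', rfl⟩ | ⟨j, rfl⟩) hy
    · exact ⟨y', hy', rfl⟩
    · exact absurd rfl (hy j)
  obtain ⟨x', hx', rfl⟩ := hmem x hx (fun j => (key j).1)
  obtain ⟨a', ha', rfl⟩ := hmem a ha (fun j => (key j).2.1)
  obtain ⟨b', hb', rfl⟩ := hmem b hb (fun j => (key j).2.2.1)
  obtain ⟨c', hc', rfl⟩ := hmem c hc (fun j => (key j).2.2.2)
  refine ⟨x', hx', a', ha', b', hb', c', hc', fun e => hab (by rw [e]), fun e => hac (by rw [e]),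
    fun e => hbc (by rw [e]), ?_, rfl⟩
  apply ext3_inj m
  rw [h, ext3_add, ext3_add]

theorem Eset_ncard (m : ℕ) (D0 : Finset (Fin 3 → ZMod 2)) : (Eset m D0).ncard = D0.card + m := by
  unfold Eset
  rw [Set.ncard_union_eq]
  · rw [Set.ncard_image_of_injective _ (ext3_inj m), Set.ncard_coe_finset, ← Set.image_univ,
      Set.ncard_image_of_injective _ (uvec_inj m), Set.ncard_univ, Nat.card_fin]
  · rw [Set.disjoint_left]
    rintro _ ⟨y, -, rfl⟩ ⟨j, hj⟩
    exact ext3_ne_uvec m y j hj.symm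

/-- the set in `Ω` -/
theorem good_Eset {m : ℕ} (C : Coord G Ω 2 (3 + m)) [FaithfulSMul G Ω] [Group.IsSolvable G]
    [Finite Ω] (D0 D1 : Finset (Fin 3 → ZMod 2)) (h0 : (0 : Fin 3 → ZMod 2) ∈ D0)
    (h1 : ∀ i : Fin 3, (Pi.single i 1 : Fin 3 → ZMod 2) ∈ D0) (h10 : D1 ⊆ D0)
    (hup : ∀ x ∈ D0, ∀ a ∈ D0, ∀ b ∈ D0, ∀ c ∈ D0, a ≠ b → a ≠ c → b ≠ c → x = a + b + c →
      x ∈ D1)
    (hlow : ∀ x ∈ D1, ∃ a ∈ D0, ∃ b ∈ D0, ∃ c ∈ D0, a ≠ b ∧ a ≠ c ∧ b ≠ c ∧ x = a + b + c)
    (hc1 : D1.card ≤ 7) (hc2 : (D0 \ D1).card + m ≤ 7) :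
    ∃ D : Set Ω, D.ncard = D0.card + m ∧ Good G D := by
  classical
  refine ⟨C.e ⁻¹' (Eset m D0), ?_, ?_⟩
  · rw [← Eset_ncard, ← Set.ncard_image_of_injective _ C.e.injective,
      Set.image_preimage_eq _ C.e.surjective]
  have hcop1 : C.cop (C.e ⁻¹' (Eset m D0)) ⊆ C.e ⁻¹' (ext3 m '' D1) := by
    rintro x ⟨hx, a, ha, b, hb, c, hc, hab, hac, hbc, h⟩
    obtain ⟨x', hx', a', ha', b', hb', c', hc', h1, h2, h3, h4, h5⟩ :=
      Eset_sum hx ha hb hc (fun e => hab (C.e.injective e)) (fun e => hac (C.e.injective e))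
        (fun e => hbc (C.e.injective e)) h
    exact ⟨x', hup x' hx' a' ha' b' hb' c' hc' h1 h2 h3 h4, h5.symm⟩
  have hcop2 : C.e ⁻¹' (ext3 m '' D1) ⊆ C.cop (C.e ⁻¹' (Eset m D0)) := by
    rintro x ⟨x', hx', hx⟩
    obtain ⟨a, ha, b, hb, c, hc, hab, hac, hbc, h⟩ := hlow x' hx'
    refine ⟨Or.inl ⟨x', h10 hx', hx⟩, C.e.symm (ext3 m a), ?_, C.e.symm (ext3 m b), ?_,
      C.e.symm (ext3 m c), ?_, ?_, ?_, ?_, ?_⟩
    · exact Or.inl ⟨a, ha, by rw [Equiv.apply_symm_apply]⟩
    · exact Or.inl ⟨b, hb, by rw [Equiv.apply_symm_apply]⟩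
    · exact Or.inl ⟨c, hc, by rw [Equiv.apply_symm_apply]⟩
    · exact fun e => hab (ext3_inj m (C.e.symm.injective e))
    · exact fun e => hac (ext3_inj m (C.e.symm.injective e))
    · exact fun e => hbc (ext3_inj m (C.e.symm.injective e))
    · rw [Equiv.apply_symm_apply, Equiv.apply_symm_apply, Equiv.apply_symm_apply, ← hx, h,
        ext3_add, ext3_add]
  have hpre : ∀ A : Set (Fin (3 + m) → ZMod 2), (C.e ⁻¹' A).ncard = A.ncard := by
    intro A
    rw [← Set.ncard_image_of_injective _ C.e.injective, Set.image_preimage_eq _ C.e.surjective]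
  refine good_of_cop C ?_ (Set.toFinite _) ?_ ?_
  · rintro x (rfl | ⟨i, rfl⟩)
    · rw [Set.mem_preimage, Equiv.apply_symm_apply]
      exact Or.inl ⟨0, h0, ext3_zero m⟩
    · rw [Set.mem_preimage]
      simp only [Equiv.apply_symm_apply]
      refine Fin.addCases (fun i => ?_) (fun j => ?_) i
      · exact Or.inl ⟨Pi.single i 1, h1 i, ext3_single m i⟩
      · exact Or.inr ⟨j, rfl⟩
  · refine (Set.ncard_le_ncard hcop1 (Set.toFinite _)).trans ?_
    rw [hpre, Set.ncard_image_of_injective _ (ext3_inj m), Set.ncard_coe_finset]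
    exact hc1
  · have hsub : (C.e ⁻¹' (Eset m D0)) \ C.cop (C.e ⁻¹' (Eset m D0)) ⊆
        C.e ⁻¹' (Eset m (D0 \ D1)) := by
      rintro x ⟨hx | hx, hx2⟩
      · obtain ⟨x', hx', hx⟩ := hx
        refine Or.inl ⟨x', ?_, hx⟩
        rw [Finset.mem_coe, Finset.mem_sdiff]
        exact ⟨hx', fun h => hx2 (hcop2 ⟨x', h, hx⟩)⟩
      · exact Or.inr hx
    refine (Set.ncard_le_ncard hsub (Set.toFinite _)).trans ?_
    rw [hpre, Eset_ncard]
    exact hc2

/-- dimensions 5 to 9 over the field of two elements -/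
theorem five_two {m : ℕ} (C : Coord G Ω 2 (3 + m)) [FaithfulSMul G Ω] [Group.IsSolvable G]
    [Finite Ω] (hm : m ≤ 6) : Five2 G Ω := by
  have e1 : ∃ D : Set Ω, D.ncard = 5 + m ∧ Good G D :=
    good_Eset C {![0, 0, 0], ![1, 0, 0], ![0, 1, 0], ![1, 1, 0], ![0, 0, 1]}
      {![0, 0, 0], ![1, 0, 0], ![0, 1, 0], ![1, 1, 0]} (by decide) (by decide) (by decide)
      (by decide) (by decide) (by decide) (by
        have : (({![0, 0, 0], ![1, 0, 0], ![0, 1, 0], ![1, 1, 0], ![0, 0, 1]} :
          Finset (Fin 3 → ZMod 2)) \ {![0, 0, 0], ![1, 0, 0], ![0, 1, 0], ![1, 1, 0]}).card = 1 := by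
          decide
        omega)
  have e2 : ∃ D : Set Ω, D.ncard = 6 + m ∧ Good G D :=
    good_Eset C {![0, 0, 0], ![1, 0, 0], ![0, 1, 0], ![1, 1, 0], ![0, 0, 1], ![1, 0, 1]}
      {![0, 0, 0], ![1, 0, 0], ![0, 1, 0], ![1, 1, 0], ![0, 0, 1], ![1, 0, 1]}
      (by decide) (by decide) (by decide)
      (fun x hx _ _ _ _ _ _ _ _ _ _ => hx) (by decide) (by decide) (by rw [Finset.sdiff_self]; simpa using by omega)
  have e3 : ∃ D : Set Ω, D.ncard = 7 + m ∧ Good G D :=
    good_Eset C
      {![0, 0, 0], ![1, 0, 0], ![0, 1, 0], ![1, 1, 0], ![0, 0, 1], ![1, 0, 1], ![0, 1, 1]}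
      {![0, 0, 0], ![1, 0, 0], ![0, 1, 0], ![1, 1, 0], ![0, 0, 1], ![1, 0, 1], ![0, 1, 1]}
      (by decide) (by decide) (by decide)
      (fun x hx _ _ _ _ _ _ _ _ _ _ => hx) (by decide) (by decide) (by rw [Finset.sdiff_self]; simpa using by omega)
  have hc := C.card_eq Nat.prime_two
  have hcompl : ∀ s, (∃ D : Set Ω, D.ncard = s ∧ Good G D) →
      ∃ D : Set Ω, D.ncard = Nat.card Ω - s ∧ Good G D := by
    rintro s ⟨D, hD, hg⟩
    exact ⟨Dᶜ, by rw [Set.ncard_compl, hD], hg.compl⟩
  refine five_of_sizes ![5 + m, 6 + m, 7 + m, Nat.card Ω - (5 + m), Nat.card Ω - (6 + m)] ?_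
    (fun i => ?_)
  · intro i j hij
    rw [hc]
    interval_cases m <;> fin_cases i <;> fin_cases j <;>
      first | exact absurd rfl hij | simp
  · fin_cases i
    · exact e1
    · exact e2
    · exact e3
    · exact hcompl _ e1
    · exact hcompl _ e2

end Cfsg.Agent.H583.Col
end

-- part: H583/ColBig
section
/-!
# Rigid two-colourings in large dimensions (helper583)

* `f2`: five inequivalent 2-colourings with stabilisers of derived length at most 3.
-/

set_option autoImplicit false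

universe u w

namespace Cfsg.Agent.H583.Col

open MulAction

variable {G : Type u} {Ω : Type w} [Group G] [MulAction G Ω] {r k : ℕ} (C : Coord G Ω r k)

include C in
/-- the fixed points of a nontrivial element -/
theorem card_fix_le [FaithfulSMul G Ω] (hr : r.Prime) {g : G} (hg : g ≠ 1) :
    Nat.card {ω : Ω // g • ω = ω} * r ≤ r ^ k := by
  classical
  have hne : NeZero r := ⟨hr.ne_zero⟩
  by_cases hemp : IsEmpty {ω : Ω // g • ω = ω}
  · rw [Nat.card_of_isEmpty, zero_mul]; exact Nat.zero_le _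
  rw [not_isEmpty_iff] at hemp
  obtain ⟨ω0, hω0⟩ := hemp
  let H : AddSubgroup (Fin k → ZMod r) := ((C.T g) - AddMonoidHom.id _).ker
  have hH : ∀ x, x ∈ H ↔ C.T g x = x := by
    intro x
    rw [AddMonoidHom.mem_ker, AddMonoidHom.sub_apply, AddMonoidHom.id_apply, sub_eq_zero]
  have e0 := C.smul g ω0
  rw [hω0] at e0
  have hHtop : H ≠ ⊤ := by
    intro htop
    apply hg
    apply FaithfulSMul.eq_of_smul_eq_smul (α := Ω)
    intro ω
    rw [one_smul]
    have hT : ∀ x, C.T g x = x := fun x => (hH x).mp (by rw [htop]; trivial)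
    refine C.smul_eq_self ?_ hT ω
    rw [hT] at e0
    exact left_eq_add.mp e0
  have h1 : Nat.card {ω : Ω // g • ω = ω} ≤ Nat.card H := by
    let f : {ω : Ω // g • ω = ω} → H := fun ω => ⟨C.e ω.1 - C.e ω0, by
      rw [hH, map_sub]
      have e1 := C.smul g ω.1
      rw [ω.2] at e1
      conv_rhs => rw [e1, e0]
      abel⟩
    refine Nat.card_le_card_of_injective f (fun a b hab => ?_)
    have h2 := congrArg Subtype.val hab
    exact Subtype.ext (C.e.injective (sub_left_injective h2))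
  have h2 : Nat.card H ∣ r ^ k := by
    have := AddSubgroup.card_addSubgroup_dvd_card H
    rwa [Nat.card_eq_fintype_card (α := Fin k → ZMod r), Fintype.card_fun, ZMod.card,
      Fintype.card_fin] at this
  obtain ⟨j, hj, hj2⟩ := (Nat.dvd_prime_pow hr).mp h2
  have hjk : j ≠ k := by
    intro h
    apply hHtop
    rw [← AddSubgroup.card_eq_iff_eq_top, hj2, h, Nat.card_eq_fintype_card, Fintype.card_fun,
      ZMod.card, Fintype.card_fin]
  calc Nat.card {ω : Ω // g • ω = ω} * r ≤ Nat.card H * r := Nat.mul_le_mul_right _ h1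
    _ = r ^ (j + 1) := by rw [hj2, pow_succ]
    _ ≤ r ^ k := Nat.pow_le_pow_right hr.pos (by omega)

include C in
/-- the order of the group -/
theorem card_group_le [FaithfulSMul G Ω] [Finite Ω] :
    Nat.card G ≤ (Nat.card Ω) ^ (k + 1) := by
  classical
  have : Fintype Ω := Fintype.ofFinite Ω
  let b : Option (Fin k) → Ω := fun o => o.elim (C.e.symm 0) (fun i => C.e.symm (Pi.single i 1))
  let f : G → (Option (Fin k) → Ω) := fun g o => g • b o
  have hf : Function.Injective f := by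
    intro g h hgh
    have h1 : ∀ o, (h⁻¹ * g) • b o = b o := by
      intro o
      have := congrFun hgh o
      rw [mul_smul, inv_smul_eq_iff]
      exact this
    have h2 : h⁻¹ * g = 1 := by
      apply FaithfulSMul.eq_of_smul_eq_smul (α := Ω)
      intro ω
      rw [one_smul]
      exact C.smul_eq_of_basis (h1 none) (fun i => h1 (some i)) ω
    exact (inv_mul_eq_one.mp h2).symm
  refine (Nat.card_le_card_of_injective f hf).trans ?_
  rw [Nat.card_fun, Nat.card_eq_fintype_card (α := Option (Fin k)), Fintype.card_option,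
    Fintype.card_fin]

theorem pow_bound_two {k : ℕ} (hk : 9 ≤ k) : k * (k + 1) + 1 ≤ 2 ^ (k - 2) := by
  induction k, hk using Nat.le_induction with
  | base => norm_num
  | succ k hk ih =>
    have h1 : 2 ^ (k + 1 - 2) = 2 * 2 ^ (k - 2) := by
      rw [show k + 1 - 2 = (k - 2) + 1 by omega, pow_succ, mul_comm]
    rw [h1]
    nlinarith

theorem pow_bound_three {k : ℕ} (hk : 5 ≤ k) : 2 * k * (k + 1) + 1 ≤ 3 ^ (k - 1) := by
  induction k, hk using Nat.le_induction with
  | base => norm_num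
  | succ k hk ih =>
    have h1 : 3 ^ (k + 1 - 1) = 3 * 3 ^ (k - 1) := by
      rw [show k + 1 - 1 = (k - 1) + 1 by omega, pow_succ, mul_comm]
    rw [h1]
    nlinarith

include C in
/-- large dimensions -/
theorem five_large [FaithfulSMul G Ω] [Finite Ω] (hr : r.Prime)
    (h : (r = 2 ∧ 9 ≤ k) ∨ (3 ≤ r ∧ 5 ≤ k)) : FiveR G Ω (Fin 2) := by
  have hc := C.card_eq hr
  have hfinG : Finite G := by
    refine Finite.of_injective (fun g : G => fun ω : Ω => g • ω) (fun g h hgh => ?_)
    exact FaithfulSMul.eq_of_smul_eq_smul (α := Ω) (fun ω => congrFun hgh ω)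
  have hGle := card_group_le C
  have hk1 : 1 ≤ k := by omega
  have hrk : r ^ k = r * r ^ (k - 1) := by
    rw [← pow_succ']; congr 1; omega
  have hfix : ∀ g : G, g ≠ 1 → Nat.card {ω : Ω // g • ω = ω} ≤ r ^ (k - 1) := by
    intro g hg
    have h1 := card_fix_le C hr hg
    rw [hrk, mul_comm] at h1
    exact Nat.le_of_mul_le_mul_left h1 hr.pos
  -- `n = r ^ k`, `b = r ^ (k - 1)`
  set b := r ^ (k - 1) with hb
  have hbpos : 0 < b := Nat.pow_pos hr.pos
  -- it is enough to bound the exponent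
  have key : ∀ m E : ℕ, r ^ k + b ≤ 2 * m + 1 → r ^ (k * (k + 1)) ≤ 2 ^ E →
      E + (m + 1) ≤ r ^ k → 5 ≤ 2 ^ m → FiveR G Ω (Fin 2) := by
    intro m E h1 h2 h3 h4
    refine five_of_count (m := m) (fun g hg => ?_) ?_
    · have := hfix g hg
      rw [hc]; omega
    · calc Nat.card G * (2 ^ m + 5) ≤ (r ^ k) ^ (k + 1) * (2 ^ m + 2 ^ m) := by
            rw [hc] at hGle
            exact Nat.mul_le_mul hGle (by omega)
        _ = r ^ (k * (k + 1)) * 2 ^ (m + 1) := by rw [← pow_mul, pow_succ, mul_two]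
        _ ≤ 2 ^ E * 2 ^ (m + 1) := Nat.mul_le_mul_right _ h2
        _ = 2 ^ (E + (m + 1)) := (pow_add _ _ _).symm
        _ ≤ 2 ^ (r ^ k) := Nat.pow_le_pow_right (by norm_num) h3
        _ = 2 ^ Nat.card Ω := by rw [hc]
  rcases h with ⟨rfl, hk⟩ | ⟨hr3, hk⟩
  · have h2 := pow_bound_two hk
    have hb2 : b = 2 * 2 ^ (k - 2) := by
      rw [hb, ← pow_succ']; congr 1; omega
    refine key (3 * 2 ^ (k - 2)) (k * (k + 1)) ?_ le_rfl ?_ ?_
    · rw [hrk, hb2]; omega
    · rw [hrk, hb2]; omega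
    · calc 5 ≤ 2 ^ 3 := by norm_num
        _ ≤ 2 ^ (3 * 2 ^ (k - 2)) := Nat.pow_le_pow_right (by norm_num) (by omega)
  · have h3 := pow_bound_three hk
    have hb3 : 3 ^ (k - 1) ≤ b := Nat.pow_le_pow_left hr3 _
    obtain ⟨s, rfl⟩ : ∃ s, r = s + 1 := ⟨r - 1, by omega⟩
    have hs2 : 2 ≤ s := by omega
    have hr2 : s + 1 ≤ 2 ^ s := Nat.lt_two_pow_self
    have hE : (s + 1) ^ (k * (k + 1)) ≤ 2 ^ (s * (k * (k + 1))) := by
      rw [pow_mul 2 s]
      exact Nat.pow_le_pow_left hr2 _
    -- the number `m`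
    have hnb : (s + 1) ^ k = s * b + b := by rw [hrk]; ring
    have hmain : 2 * (s * (k * (k + 1))) + 2 ≤ s * b := by
      have h4 : s * (2 * k * (k + 1) + 1) ≤ s * b := Nat.mul_le_mul_left _ (h3.trans hb3)
      nlinarith
    obtain ⟨m, hm⟩ : ∃ m, (s + 1) ^ k + b ≤ 2 * m + 1 ∧ 2 * m ≤ (s + 1) ^ k + b :=
      ⟨((s + 1) ^ k + b) / 2, by omega, by omega⟩
    refine key m (s * (k * (k + 1))) hm.1 hE ?_ ?_
    · rw [hnb] at hm ⊢
      omega
    · have : 3 ≤ m := by
        have h5 : 81 ≤ b := by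
          refine le_trans ?_ hb3
          calc 81 = 3 ^ 4 := by norm_num
            _ ≤ 3 ^ (k - 1) := Nat.pow_le_pow_right (by norm_num) (by omega)
        omega
      calc 5 ≤ 2 ^ 3 := by norm_num
        _ ≤ 2 ^ m := Nat.pow_le_pow_right (by norm_num) this

/-- **(F2)** -/
theorem f2 {G : Type u} {Ω : Type w} [Group G] [Finite G] [Group.IsSolvable G] [MulAction G Ω]
    [FaithfulSMul G Ω] [MulAction.IsPreprimitive G Ω] [Finite Ω] (hn : 5 ≤ Nat.card Ω) :
    ∃ c : Fin 5 → Ω → Fin 2, (∀ i j, i ≠ j → ∀ g : G, ¬ ∀ ω, c i (g • ω) = c j ω) ∧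
      ∀ i, ∀ S : Subgroup G, (∀ g ∈ S, ∀ ω, c i (g • ω) = c i ω) → derivedSeries S 3 = ⊥ := by
  obtain ⟨r, k, hr, ⟨C⟩⟩ := exists_coord (G := G) (Ω := Ω) inferInstance (by omega)
  by_cases hk : k ≤ 4
  · exact five_small C hr hk hn
  by_cases hr2 : r = 2
  · subst hr2
    by_cases hk9 : 9 ≤ k
    · exact (five_large C hr (Or.inl ⟨rfl, hk9⟩)).five2
    · obtain ⟨m, rfl⟩ : ∃ m, k = 3 + m := ⟨k - 3, by omega⟩
      exact five_two C (by omega)
  · have := hr.two_le
    exact (five_large C hr (Or.inr ⟨by omega, by omega⟩)).five2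

end Cfsg.Agent.H583.Col
end
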