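import Mathlib
import Cfsg.Agent.H465.SULin_m3
import Cfsg.Agent.H585.SuRow
import Cfsg.Agent.H478.SporCore_m3
import Cfsg.Agent.Prune
set_option linter.all false
prune_inst 0x7f00000000000000000000000000000000000000000000000000000000000000000000000000000000000000000000000000000000000000000000000000000000000000000000000000000000000000003fffffffffffffffffffffffffffbeffbdffffffff
open scoped Cfsg.Agent.FastGrp

/-!
# From the rows to the good primes, general facts (helper583, for S4384)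
-/

set_option autoImplicit false
set_option linter.unusedSectionVars false

namespace Cfsg.Agent.H583.GoodGen

open Cfsg.Agent.H465.SU Cfsg.Agent.H585.Good Cfsg.Agent.H585.SuRow
open Cfsg.Agent.H728.DghpLem Cfsg.Agent.H728.DghpMat Cfsg.Agent.H728.DghpNum Cfsg.Agent.H728.DghpRow

/-- the prime and the exponent of a prime power -/
theorem exp_unique {p p' f f' : ℕ} (hp : p.Prime) (hp' : p'.Prime) (hf : f ≠ 0) (h : p ^ f = p' ^ f') :
    p = p' ∧ f = f' := by
  have h1 : p ∣ p' ^ f' := by rw [← h]; exact dvd_pow_self p hf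
  have h2 : p = p' := (Nat.prime_dvd_prime_iff_eq hp hp').1 (hp.dvd_of_dvd_pow h1)
  subst h2
  exact ⟨rfl, Nat.pow_right_injective hp.two_le h⟩

/-- `r ∤ f` for the exponent of the field -/
theorem not_dvd_exp {F : Type*} [Field F] [Fintype F] {q r k : ℕ} (hk : k ≠ 0) (hF : Fintype.card F = q ^ k)
    (h : ∃ p f : ℕ, p.Prime ∧ q = p ^ f ∧ ¬ r ∣ f) :
    ∃ p f : ℕ, Fact p.Prime ∧ CharP F p ∧ q = p ^ f ∧ 1 ≤ f ∧ Fintype.card F = p ^ (k * f) ∧ ¬ r ∣ f := by
  obtain ⟨p, f, hp, rfl, hf⟩ := h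
  obtain ⟨p', hpc⟩ := CharP.exists F
  obtain ⟨n, hp', hn⟩ := FiniteField.card F p'
  rw [hF, ← pow_mul] at hn
  obtain ⟨rfl, h2⟩ := exp_unique hp' hp n.ne_zero hn.symm
  have hf1 : 1 ≤ f := by
    rcases Nat.eq_zero_or_pos f with h0 | h0
    · exact absurd (by rw [h0]; exact dvd_zero r) hf
    · exact h0
  exact ⟨p', f, ⟨hp⟩, hpc, rfl, hf1, by rw [hF, ← pow_mul, mul_comm], hf⟩

theorem ppd_of_ord {q e r : ℕ} (hr : r.Prime) (he : e ≠ 0) (h : orderOf (q : ZMod r) = e) : Ppd q e r := by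
  refine ⟨hr, h, fun h1 => he ?_⟩
  have : Fact r.Prime := ⟨hr⟩
  rw [← h, (ZMod.natCast_eq_zero_iff q r).2 h1, orderOf_eq_zero_iff']
  intro n hn
  rw [zero_pow hn.ne']
  exact zero_ne_one

/-- **from the row to the good prime** -/
theorem hasGood_of_rowE {G : Type*} [Group G] [Finite G] (hG : IsSimpleGroup G ∧ ¬ IsMulCommutative G) {q e : ℕ}
    (he : e ≠ 0) (hrow : RowE G q e)
    (hout : ∀ r, r.Prime → 7 ≤ r → (∃ p f : ℕ, p.Prime ∧ q = p ^ f ∧ ¬ r ∣ f) → ¬ r ∣ Nat.card (Cfsg.Out G))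
    (hwit : ∀ (r a : ℕ) (y : G), 2 ≤ a → Ppd q e r → orderOf y = r ^ a → (∃ p f : ℕ, p.Prime ∧ q = p ^ f ∧ ¬ r ∣ f) →
      ∀ x : G, orderOf x = r → Wit G r x) : HasGood G := by
  obtain ⟨hs, hnc⟩ := hG
  obtain ⟨r, a, y, hr, h7, ha, hy, hc, hsu, hf, hae⟩ := hrow
  refine ⟨r, a, y, hr, by omega, ha, hy, hc, hsu, InnAt.of_out hr (hout r hr h7 hf), ?_⟩
  rcases Nat.lt_or_ge a 2 with h2 | h2
  · obtain rfl : a = 1 := by omega
    have e1 : y ^ r ^ (1 - 1) = y := by simp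
    rw [e1]
    rw [pow_one] at hy
    exact Wit.of_one hr hy hsu hnc
  · rcases hae with rfl | hae
    · omega
    · refine hwit r a y h2 (ppd_of_ord hr he hae) hy hf _ ?_
      rw [orderOf_pow, hy, Nat.gcd_eq_right (pow_dvd_pow r (Nat.sub_le a 1)), Nat.pow_div (Nat.sub_le a 1) hr.pos]
      have : a - (a - 1) = 1 := by omega
      rw [this, pow_one]

/-- the partner, both primes cyclic -/
theorem wit_cyc {G : Type*} [Group G] [Finite G] {K : Type*} [Field K] [Fintype K] {N : Type*} [Fintype N]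
    [DecidableEq N] {φ : G →* GL N K} (hφ : Function.Injective φ) {q k e f r s : ℕ} (hK : Fintype.card K = q ^ k)
    (hk : k ≠ 0) (hr : Ppd q e r) (hs : Ppd q f s) (hsG : s ∣ Nat.card G) (hef : e ≠ f)
    (hna : NonAdj G r s) (hrc : ∀ P : Subgroup G, Elem r P → IsCyclic ↥P)
    (hsc : ∀ P : Subgroup G, Elem s P → IsCyclic ↥P)
    (h1 : Fintype.card N < Nat.lcm (e / Nat.gcd e k) s) (h2 : Fintype.card N < Nat.lcm (f / Nat.gcd f k) r)
    {x : G} (hx : orderOf x = r) : Wit G r x := by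
  obtain ⟨c, hc⟩ := exists_order hs.prime hsG
  refine ⟨s, c, hs.prime, (Ppd.ne hr hs hef).symm, ⟨1, hc⟩, ?_⟩
  rw [pow_one] at hc
  refine not_solvable_cyc hφ hr.prime hs.prime (hr.natCast_ne hK) (hs.natCast_ne hK) hna hrc hsc ?_ ?_ x c hx hc
  · rw [hK, (hr.pow k hk).ord]
    exact h1
  · rw [hK, (hs.pow k hk).ord]
    exact h2

theorem not_dvd_mul {r a b : ℕ} (hr : r.Prime) (ha : ¬ r ∣ a) (hb : ¬ r ∣ b) : ¬ r ∣ a * b := fun h => by
  rcases (Nat.Prime.dvd_mul hr).1 h with h | h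
  · exact ha h
  · exact hb h

theorem not_dvd_of_lt {r a : ℕ} (ha : 0 < a) (har : a < r) : ¬ r ∣ a := fun h => by
  have := Nat.le_of_dvd ha h
  omega

theorem not_dvd_gcd {r a b : ℕ} (ha : 0 < a) (har : a < r) : ¬ r ∣ Nat.gcd a b := fun h =>
  not_dvd_of_lt ha har (h.trans (Nat.gcd_dvd_left a b))

end Cfsg.Agent.H583.GoodGen
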