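import Mathlib
set_option linter.all false

-- part: H583/L3Cover
section
/-! Covering argument for `L3` (piece of S4363). -/

namespace Cfsg.Agent.H583.L3

open Subgroup
open scoped Pointwise commutatorElement

/-- A map of finite order a prime `r` on a finite set of size prime to `r` has a fixed point,
and the number of fixed points is congruent to the size. -/
theorem card_modEq_fix {α : Type*} [Finite α] (f : α → α) {r : ℕ} (hr : r.Prime)
    (hf : ∀ a, f^[r] a = a) : Nat.card α ≡ Nat.card {a : α // f a = a} [MOD r] := by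
  classical
  have := Fintype.ofFinite α
  have : Fact r.Prime := ⟨hr⟩
  have h := Equiv.Perm.card_fixedPoints_modEq (α := α) (f := (f : Function.End α)) (p := r)
    (n := 1) (by
      rw [pow_one]
      funext a
      let g : Function.End α := f
      have : ∀ n : ℕ, (g ^ n) a = f^[n] a := by
        intro n
        induction n with
        | zero => rfl
        | succ n ih =>
          rw [pow_succ']
          change f ((g ^ n) a) = _
          rw [ih, Function.iterate_succ_apply']
      change (g ^ r) a = a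
      rw [this, hf])
  rw [Nat.card_eq_fintype_card, Nat.card_eq_fintype_card]
  convert h using 1
  exact Fintype.card_congr (Equiv.refl _)

theorem iterate_aut {Q : Type*} [Group Q] (σ : MulAut Q) (n : ℕ) (x : Q) :
    (fun y => σ y)^[n] x = (σ ^ n) x := by
  induction n with
  | zero => rfl
  | succ n ih => rw [Function.iterate_succ_apply', ih, pow_succ']; rfl

theorem pow_mem_of_inv {Q : Type*} [Group Q] {σ : MulAut Q} {B : Subgroup Q}
    (hB : ∀ x ∈ B, σ x ∈ B) (n : ℕ) : ∀ x ∈ B, (σ ^ n) x ∈ B := by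
  induction n with
  | zero => intro x hx; simpa using hx
  | succ n ih => intro x hx; rw [pow_succ']; exact hB _ (ih x hx)

/-- a `σ`-invariant subgroup without nontrivial `σ`-fixed cosets is everything or has index
at least `r + 1`. -/
theorem index_ge {Q : Type*} [Group Q] [Finite Q] (σ : MulAut Q) {r : ℕ} (hr : r.Prime)
    (hσ : σ ^ r = 1) (B : Subgroup Q) (hB : ∀ x ∈ B, σ x ∈ B)
    (h : ∀ x, x⁻¹ * σ x ∈ B → x ∈ B) (hne : B ≠ ⊤) : r + 1 ≤ B.index := by
  classical
  let f : Q ⧸ B → Q ⧸ B := Quotient.map' (fun x => σ x) (by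
    intro x y hxy
    rw [QuotientGroup.leftRel_apply] at hxy ⊢
    rw [← map_inv, ← map_mul]
    exact hB _ hxy)
  have hfmk : ∀ x : Q, f (x : Q ⧸ B) = ((σ x : Q) : Q ⧸ B) := fun x => rfl
  have hfn : ∀ (n : ℕ) (x : Q), f^[n] (x : Q ⧸ B) = (((σ ^ n) x : Q) : Q ⧸ B) := by
    intro n
    induction n with
    | zero => intro x; rfl
    | succ n ih =>
      intro x
      rw [Function.iterate_succ_apply', ih, hfmk, pow_succ']
      rfl
  have h1 := card_modEq_fix f hr (by
    intro a
    induction a using QuotientGroup.induction_on with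
    | H z => rw [hfn, hσ]; rfl)
  have h2 : Nat.card {a : Q ⧸ B // f a = a} = 1 := by
    rw [Nat.card_eq_one_iff_unique]
    constructor
    · constructor
      rintro ⟨a, ha⟩ ⟨b, hb⟩
      have key : ∀ a : Q ⧸ B, f a = a → a = ((1 : Q) : Q ⧸ B) := by
        intro a ha
        induction a using QuotientGroup.induction_on with
        | H z =>
          rw [hfmk] at ha
          have h3 := QuotientGroup.eq.mp ha.symm
          have h4 := h z h3
          exact (QuotientGroup.eq.mpr (by simpa using h4)).symm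
      rw [Subtype.mk.injEq, key a ha, key b hb]
    · exact ⟨⟨((1 : Q) : Q ⧸ B), by rw [hfmk, map_one]⟩⟩
  rw [h2] at h1
  have h5 : B.index ≡ 1 [MOD r] := h1
  have h6 : B.index ≠ 1 := by
    rw [Ne, Subgroup.index_eq_one]; exact hne
  have h7 : 0 < B.index := Nat.pos_of_ne_zero Subgroup.index_ne_zero_of_finite
  have h8 : r ∣ B.index - 1 := (Nat.modEq_iff_dvd' h7).mp h5.symm
  obtain ⟨k, hk⟩ := h8
  rcases Nat.eq_zero_or_pos k with rfl | hk0
  · omega
  · have : r ≤ r * k := Nat.le_mul_of_pos_right _ hk0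
    omega

/-- a finite group is not the union of `r + 1` subgroups of index at least `r + 1`. -/
theorem not_cover {Q : Type*} [Group Q] [Finite Q] {r : ℕ} (hr : 0 < r)
    (B : Fin (r + 1) → Subgroup Q) (hB : ∀ i, r + 1 ≤ (B i).index) :
    ∃ x, ∀ i, x ∉ B i := by
  classical
  by_contra hcon
  push Not at hcon
  have hc : ⋃ i ∈ (Finset.univ : Finset (Fin (r + 1))), (1 : Q) • ((B i : Subgroup Q) : Set Q)
      = Set.univ := by
    rw [Set.eq_univ_iff_forall]
    intro x
    obtain ⟨i, hi⟩ := hcon x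
    simp only [Finset.mem_univ, Set.iUnion_true, one_smul, Set.mem_iUnion, SetLike.mem_coe]
    exact ⟨i, hi⟩
  have h1 := one_le_sum_inv_index_of_leftCoset_cover (s := Finset.univ)
    (g := fun _ : Fin (r + 1) => (1 : Q)) (H := B) hc
  have h2 := pairwiseDisjoint_leftCoset_cover_of_sum_inv_index_eq_one (s := Finset.univ)
    (g := fun _ : Fin (r + 1) => (1 : Q)) (H := B) hc
  have h3 : ∑ i : Fin (r + 1), ((B i).index : ℚ)⁻¹ ≤ 1 := by
    calc ∑ i : Fin (r + 1), ((B i).index : ℚ)⁻¹ ≤ ∑ i : Fin (r + 1), ((r : ℚ) + 1)⁻¹ := by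
          apply Finset.sum_le_sum
          intro i _
          apply inv_anti₀
          · positivity
          · exact_mod_cast hB i
      _ = 1 := by
          rw [Finset.sum_const, Finset.card_univ, Fintype.card_fin, nsmul_eq_mul]
          push_cast
          field_simp
  have h4 := h2 (le_antisymm h3 h1)
  have hfi : ∀ i, (B i).FiniteIndex := fun i => inferInstance
  have h5 := h4 (x := (0 : Fin (r + 1))) (by simp [hfi]) (y := Fin.last r) (by simp [hfi])
    (by
      intro h
      have := congrArg Fin.val h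
      simp at this
      omega)
  have h6 : (1 : Q) ∈ ((1 : Q) • ((B 0 : Subgroup Q) : Set Q)) := by
    rw [one_smul]; exact (B 0).one_mem
  have h7 : (1 : Q) ∈ ((1 : Q) • ((B (Fin.last r) : Subgroup Q) : Set Q)) := by
    rw [one_smul]; exact (B _).one_mem
  exact Set.disjoint_left.mp h5 h6 h7

theorem cover {Q : Type*} [Group Q] [Finite Q] (σ δ : MulAut Q) {r : ℕ} (hr : r.Prime)
    (hσ : σ ^ r = 1) (hcomm : σ * δ = δ * σ) {m : ℕ} (hδ : δ ^ m = 1) (hm : ¬ r ∣ m)
    (K : Subgroup Q) (hab : commutator Q ≤ K) (hσK : ∀ x ∈ K, σ x ∈ K)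
    (hfpf : ∀ x, x⁻¹ * σ x ∈ K → x ∈ K)
    (hcov : ∀ t, δ t ∈ K ∨ ∃ k < r, t * ((σ ^ k) (δ t))⁻¹ ∈ K) :
    K = ⊤ ∨ ∀ t, t⁻¹ * δ t ∈ K := by
  classical
  have hKn : K.Normal := Subgroup.Normal.of_commutator_le (G := Q) hab
  have hcs : ∀ k : ℕ, ∀ x, (σ ^ k) (δ x) = δ ((σ ^ k) x) := by
    intro k x
    have : Commute (σ ^ k) δ := Commute.pow_left hcomm k
    have h1 := congrArg (fun g : MulAut Q => g x) this.eq
    exact h1
  -- commutation in the quotient
  have hcq : ∀ a b : Q ⧸ K, a * b = b * a := by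
    intro a b
    induction a using QuotientGroup.induction_on with
    | H x =>
      induction b using QuotientGroup.induction_on with
      | H y =>
        rw [← QuotientGroup.mk_mul, ← QuotientGroup.mk_mul, QuotientGroup.eq]
        apply hab
        have h1 : (x * y)⁻¹ * (y * x) = ⁅y⁻¹, x⁻¹⁆ := by
          rw [commutatorElement_def]; group
        rw [h1]
        exact Subgroup.commutator_mem_commutator (Subgroup.mem_top _) (Subgroup.mem_top _)
  -- the subgroups of the cover
  let φ : ℕ → Q →* Q ⧸ K := fun k =>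
    { toFun := fun t => ((t * ((σ ^ k) (δ t))⁻¹ : Q) : Q ⧸ K)
      map_one' := by simp
      map_mul' := by
        intro x y
        simp only [map_mul, mul_inv_rev, QuotientGroup.mk_mul]
        generalize ((x : Q) : Q ⧸ K) = a
        generalize ((y : Q) : Q ⧸ K) = b
        generalize ((((σ ^ k) (δ y))⁻¹ : Q) : Q ⧸ K) = c
        generalize ((((σ ^ k) (δ x))⁻¹ : Q) : Q ⧸ K) = d
        rw [mul_assoc, mul_assoc, ← mul_assoc b c d, hcq (b * c) d] }
  have hφ : ∀ k t, t ∈ (φ k).ker ↔ t * ((σ ^ k) (δ t))⁻¹ ∈ K := by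
    intro k t
    rw [MonoidHom.mem_ker]
    change ((t * ((σ ^ k) (δ t))⁻¹ : Q) : Q ⧸ K) = 1 ↔ _
    rw [QuotientGroup.eq_one_iff]
  have hmod : ∀ x y : Q, x * y ∈ K ↔ y * x ∈ K := fun x y => hKn.mem_comm_iff
  let B : Fin (r + 1) → Subgroup Q := fun i =>
    if (i : ℕ) < r then (φ i).ker else K.comap δ.toMonoidHom
  have hB1 : ∀ i : Fin (r + 1), (i : ℕ) < r → B i = (φ i).ker := fun i hi => by
    simp only [B, if_pos hi]
  have hB2 : ∀ i : Fin (r + 1), ¬ (i : ℕ) < r → B i = K.comap δ.toMonoidHom := fun i hi => by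
    simp only [B, if_neg hi]
  have hinv : ∀ i, ∀ x ∈ B i, σ x ∈ B i := by
    intro i x hx
    by_cases hi : (i : ℕ) < r
    · rw [hB1 i hi, hφ] at hx ⊢
      have := hσK _ hx
      rw [map_mul, map_inv] at this
      have h2 : σ ((σ ^ (i : ℕ)) (δ x)) = (σ ^ (i : ℕ)) (δ (σ x)) := by
        have e1 : σ ((σ ^ (i : ℕ)) (δ x)) = (σ ^ (i : ℕ)) (σ (δ x)) := by
          have := congrArg (fun g : MulAut Q => g (δ x)) (Commute.self_pow σ (i : ℕ)).eq
          exact this
        have e2 : σ (δ x) = δ (σ x) := congrArg (fun g : MulAut Q => g x) hcomm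
        rw [e1, e2]
      rw [h2] at this
      exact this
    · rw [hB2 i hi] at hx ⊢
      rw [Subgroup.mem_comap] at hx ⊢
      have := hσK _ hx
      have e2 : σ (δ x) = δ (σ x) := congrArg (fun g : MulAut Q => g x) hcomm
      change δ (σ x) ∈ K
      rw [← e2]; exact this
  have hfp : ∀ i, ∀ x, x⁻¹ * σ x ∈ B i → x ∈ B i := by
    intro i x hx
    by_cases hi : (i : ℕ) < r
    · rw [hB1 i hi] at hx ⊢
      rw [hφ]
      apply hfpf
      have h1 : (φ i) (x⁻¹ * σ x) = 1 := hx
      rw [map_mul, map_inv] at h1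
      have h2 : (φ i) (σ x) = (((σ (x * ((σ ^ (i : ℕ)) (δ x))⁻¹)) : Q) : Q ⧸ K) := by
        change ((σ x * ((σ ^ (i : ℕ)) (δ (σ x)))⁻¹ : Q) : Q ⧸ K) = _
        rw [map_mul, map_inv]
        have e1 : σ ((σ ^ (i : ℕ)) (δ x)) = (σ ^ (i : ℕ)) (σ (δ x)) :=
          congrArg (fun g : MulAut Q => g (δ x)) (Commute.self_pow σ (i : ℕ)).eq
        have e2 : σ (δ x) = δ (σ x) := congrArg (fun g : MulAut Q => g x) hcomm
        rw [e1, e2]
      rw [h2] at h1
      change (((x * ((σ ^ (i : ℕ)) (δ x))⁻¹ : Q) : Q ⧸ K))⁻¹ * _ = 1 at h1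
      rw [← QuotientGroup.mk_inv, ← QuotientGroup.mk_mul, QuotientGroup.eq_one_iff] at h1
      exact h1
    · rw [hB2 i hi] at hx ⊢
      rw [Subgroup.mem_comap] at hx ⊢
      change δ (x⁻¹ * σ x) ∈ K at hx
      change δ x ∈ K
      apply hfpf
      rw [map_mul, map_inv] at hx
      have e2 : σ (δ x) = δ (σ x) := congrArg (fun g : MulAut Q => g x) hcomm
      rw [e2]; exact hx
  have htop : ∃ i, B i = ⊤ := by
    by_contra hcon
    push Not at hcon
    obtain ⟨x, hx⟩ := not_cover hr.pos B (fun i => index_ge σ hr hσ (B i) (hinv i) (hfp i) (hcon i))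
    rcases hcov x with h | ⟨k, hk, h⟩
    · apply hx (Fin.last r)
      rw [hB2 _ (by simp), Subgroup.mem_comap]
      exact h
    · apply hx ⟨k, by omega⟩
      rw [hB1 _ (by simpa using hk), hφ]
      exact h
  obtain ⟨i, hi⟩ := htop
  by_cases hir : (i : ℕ) < r
  · rw [hB1 i hir] at hi
    have hall : ∀ t, t * ((σ ^ (i : ℕ)) (δ t))⁻¹ ∈ K := fun t => by
      rw [← hφ, hi]; exact Subgroup.mem_top _
    -- the automorphism τ = σ ^ i * δ acts trivially on Q / K
    set τ : MulAut Q := σ ^ (i : ℕ) * δ with hτ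
    have h1 : ∀ t, t * (τ t)⁻¹ ∈ K := hall
    have hτK : ∀ t ∈ K, τ t ∈ K := by
      intro t ht
      have h2 := K.inv_mem (h1 t)
      rw [mul_inv_rev, inv_inv] at h2
      have h3 := K.mul_mem h2 ht
      simpa using h3
    have hpow : ∀ n : ℕ, ∀ t, t * ((τ ^ n) t)⁻¹ ∈ K := by
      intro n
      induction n with
      | zero => intro t; simp
      | succ n ih =>
        intro t
        have h2 := ih t
        have h3 := h1 ((τ ^ n) t)
        have h4 := K.mul_mem h2 h3
        have h5 : t * ((τ ^ n) t)⁻¹ * ((τ ^ n) t * (τ ((τ ^ n) t))⁻¹) = t * ((τ ^ (n + 1)) t)⁻¹ := by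
          rw [pow_succ']
          change _ = t * (τ ((τ ^ n) t))⁻¹
          group
        rw [h5] at h4
        exact h4
    have hcδ : Commute (σ ^ (i : ℕ)) δ := Commute.pow_left hcomm _
    have h6 : τ ^ m = σ ^ ((i : ℕ) * m) := by
      rw [hτ, hcδ.mul_pow, hδ, mul_one, pow_mul]
    rcases Nat.eq_zero_or_pos (i : ℕ) with hi0 | hi0
    · right
      intro t
      have h7 := h1 t
      rw [hτ, hi0, pow_zero, one_mul] at h7
      have h8 := K.inv_mem h7
      rw [mul_inv_rev, inv_inv] at h8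
      exact (hmod _ _).mp h8
    · left
      rw [eq_top_iff]
      intro t _
      -- σ is a power of σ ^ (i m)
      have h9 : Nat.Coprime ((i : ℕ) * m) r := by
        apply Nat.Coprime.symm
        rw [hr.coprime_iff_not_dvd]
        intro hd
        rcases hr.dvd_mul.mp hd with hd | hd
        · exact absurd (Nat.le_of_dvd hi0 hd) (by omega)
        · exact hm hd
      obtain ⟨n, -, hn⟩ := Nat.exists_mul_mod_eq_one_of_coprime h9 hr.one_lt
      have h10 : (τ ^ m) ^ n = σ := by
        rw [h6, ← pow_mul]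
        conv_lhs => rw [← Nat.div_add_mod ((i : ℕ) * m * n) r]
        rw [hn, pow_add, pow_mul, hσ, one_pow, one_mul, pow_one]
      have h11 := hpow (m * n) t
      rw [pow_mul, h10] at h11
      apply hfpf
      have h12 := K.inv_mem h11
      rw [mul_inv_rev, inv_inv] at h12
      exact (hmod _ _).mp h12
  · left
    rw [hB2 i hir] at hi
    rw [eq_top_iff]
    intro t _
    have h1 : (δ⁻¹ : MulAut Q) t ∈ K.comap δ.toMonoidHom := by rw [hi]; exact Subgroup.mem_top _
    rw [Subgroup.mem_comap] at h1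
    change δ ((δ⁻¹ : MulAut Q) t) ∈ K at h1
    simpa using h1

end Cfsg.Agent.H583.L3
end

-- part: H583/L3Group
section
/-! The group-theoretic half of `L3` (piece of S4363). -/

namespace Cfsg.Agent.H583.L3

open Subgroup
open scoped Pointwise commutatorElement

/-- a finite nilpotent group generated by a subgroup and the commutator subgroup. -/
theorem eq_top_of_sup_commutator {Q : Type*} [Group Q] [Finite Q] [hn : Group.IsNilpotent Q]
    (N : Subgroup Q) (h : N ⊔ _root_.commutator Q = ⊤) : N = ⊤ := by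
  by_contra hne
  obtain ⟨M, hM, hNM⟩ := (eq_top_or_exists_le_coatom N).resolve_left hne
  have hMn : M.Normal := NormalizerCondition.normal_of_coatom M
    (Group.normalizerCondition_of_isNilpotent) hM
  have hnt : Nontrivial (Q ⧸ M) := by
    rw [QuotientGroup.nontrivial_iff]; exact hM.1
  have hlt := Group.IsSolvable.commutator_lt_top_of_nontrivial (Q ⧸ M)
  apply hlt.ne
  have h1 : (N ⊔ _root_.commutator Q).map (QuotientGroup.mk' M) = ⊤ := by
    rw [h, Subgroup.map_top_of_surjective _ (QuotientGroup.mk'_surjective M)]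
  rw [Subgroup.map_sup] at h1
  have h2 : N.map (QuotientGroup.mk' M) = ⊥ := by
    rw [Subgroup.map_eq_bot_iff, QuotientGroup.ker_mk']; exact hNM
  rw [h2, bot_sup_eq, _root_.commutator_def, Subgroup.map_commutator,
    Subgroup.map_top_of_surjective _ (QuotientGroup.mk'_surjective M)] at h1
  rw [_root_.commutator_def]
  exact h1

/-- coprime action: a `σ`-fixed coset contains a `σ`-fixed element. -/
theorem fixed_coset {Q : Type*} [Group Q] [Finite Q] (σ : MulAut Q) {r : ℕ} (hr : r.Prime)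
    (hσ : σ ^ r = 1) (hrQ : ¬ r ∣ Nat.card Q) (K : Subgroup Q) (hK : ∀ x ∈ K, σ x ∈ K) (x : Q)
    (hx : x⁻¹ * σ x ∈ K) : ∃ k ∈ K, σ (x * k) = x * k := by
  classical
  let f : K → K := fun k => ⟨(x⁻¹ * σ x) * σ k, K.mul_mem hx (hK _ k.2)⟩
  have hf : ∀ (n : ℕ) (k : K), x * ((f^[n] k : K) : Q) = (σ ^ n) (x * k) := by
    intro n
    induction n with
    | zero => intro k; rfl
    | succ n ih =>
      intro k
      rw [Function.iterate_succ_apply', pow_succ']
      change x * ((x⁻¹ * σ x) * σ ((f^[n] k : K) : Q)) = σ ((σ ^ n) (x * k))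
      rw [← ih, map_mul]; group
  have h1 := card_modEq_fix f hr (by
    intro k
    have := hf r k
    rw [hσ] at this
    change x * ((f^[r] k : K) : Q) = x * k at this
    exact Subtype.ext (mul_left_cancel this))
  have h2 : Nat.card {k : K // f k = k} ≠ 0 := by
    intro h0
    rw [h0] at h1
    have h3 : r ∣ Nat.card K := (Nat.modEq_zero_iff_dvd).mp h1
    exact hrQ (h3.trans (Subgroup.card_subgroup_dvd_card K))
  obtain ⟨⟨k, hk⟩⟩ := (Nat.card_ne_zero.mp h2).1
  refine ⟨k, k.2, ?_⟩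
  have h4 := congrArg (fun z : K => (z : Q)) hk
  change (x⁻¹ * σ x) * σ k = k at h4
  rw [map_mul, ← h4]
  rw [h4]
  have : σ x * σ k = x * ((x⁻¹ * σ x) * σ k) := by group
  rw [this, h4]

/-- conjugation by an element of the normalizer, as an automorphism. -/
theorem conj_pow_coe {G : Type*} [Group G] (Q : Subgroup G) (g : normalizer (Q : Set G)) (n : ℕ)
    (x : Q) : (((Q.normalizerMonoidHom g) ^ n) x : G) = (g : G) ^ n * x * ((g : G) ^ n)⁻¹ := by
  rw [← map_pow]
  rfl

theorem eq_of_cover {G : Type*} [Group G] [Finite G] (Q T N : Subgroup G) (σ : G) {r : ℕ}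
    (hr : r.Prime) (hσ : σ ^ r = 1) (hrQ : ¬ r ∣ Nat.card Q) (hrT : ¬ r ∣ Nat.card T)
    (hQn : Group.IsNilpotent Q) (hσQ : σ ∈ normalizer (Q : Set G))
    (hTQ : T ≤ normalizer (Q : Set G)) (hTσ : ∀ t ∈ T, t * σ = σ * t) (hQT : ⁅Q, T⁆ = Q)
    (hNQ : N ≤ Q) (hσN : ∀ x ∈ N, σ * x * σ⁻¹ ∈ N) (hCN : ∀ c ∈ Q, c * σ = σ * c → c ∈ N)
    (hcov : ∀ d ∈ T, ∀ t ∈ Q, d * t * d⁻¹ ∈ N ∨
      ∃ k < r, t * (σ ^ k * (d * t * d⁻¹) * (σ ^ k)⁻¹)⁻¹ ∈ N) : N = Q := by
  classical
  set s : MulAut Q := Q.normalizerMonoidHom ⟨σ, hσQ⟩ with hs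
  have hsc : ∀ x : Q, ((s x : Q) : G) = σ * x * σ⁻¹ := fun x => rfl
  have hsn : ∀ (n : ℕ) (x : Q), (((s ^ n) x : Q) : G) = σ ^ n * x * (σ ^ n)⁻¹ := fun n x =>
    conj_pow_coe Q ⟨σ, hσQ⟩ n x
  have hsr : s ^ r = 1 := by
    ext x
    rw [hsn, hσ]; simp
  set N' : Subgroup Q := N.subgroupOf Q with hN'
  set K : Subgroup Q := N' ⊔ _root_.commutator Q with hK
  have hsK : ∀ x ∈ K, s x ∈ K := by
    have h1 : K.map s.toMonoidHom ≤ K := by
      rw [hK, Subgroup.map_sup]
      apply sup_le_sup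
      · rintro _ ⟨x, hx, rfl⟩
        rw [hN', SetLike.mem_coe, Subgroup.mem_subgroupOf] at hx
        rw [hN', Subgroup.mem_subgroupOf]
        exact hσN _ hx
      · rw [_root_.commutator_def, Subgroup.map_commutator]
        exact Subgroup.commutator_mono le_top le_top
    intro x hx
    exact h1 (Subgroup.mem_map_of_mem s.toMonoidHom hx)
  have hfpf : ∀ x, x⁻¹ * s x ∈ K → x ∈ K := by
    intro x hx
    obtain ⟨k, hk, hk2⟩ := fixed_coset s hr hsr hrQ K hsK x hx
    have h1 : x * k ∈ K := by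
      apply (le_sup_left : N' ≤ K)
      rw [hN', Subgroup.mem_subgroupOf]
      apply hCN _ (x * k).2
      have h2 := congrArg (fun z : Q => (z : G)) hk2
      simp only [hsc] at h2
      rw [mul_inv_eq_iff_eq_mul] at h2
      exact h2.symm
    have h3 := K.mul_mem h1 (K.inv_mem hk)
    simpa using h3
  have hQ0 : Group.IsNilpotent Q := hQn
  -- it suffices to show K = ⊤
  have hfin : K = ⊤ → N = Q := by
    intro hKt
    have h1 : N' = ⊤ := eq_top_of_sup_commutator N' hKt
    apply le_antisymm hNQ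
    intro x hx
    have h2 : (⟨x, hx⟩ : Q) ∈ N' := by rw [h1]; exact Subgroup.mem_top _
    rw [hN', Subgroup.mem_subgroupOf] at h2
    exact h2
  by_contra hne
  have hKt : K ≠ ⊤ := fun h => hne (hfin h)
  apply hKt
  have hall : ∀ (d : G) (hd : d ∈ T), ∀ t : Q,
      t * (Q.normalizerMonoidHom ⟨d, hTQ hd⟩) t⁻¹ ∈ K := by
    intro d hd t
    set δ : MulAut Q := Q.normalizerMonoidHom ⟨d, hTQ hd⟩ with hδd
    have hδc : ∀ x : Q, ((δ x : Q) : G) = d * x * d⁻¹ := fun x => rfl
    have hδn : δ ^ (orderOf d) = 1 := by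
      ext x
      rw [hδd, conj_pow_coe, pow_orderOf_eq_one]; simp
    have hsd : s * δ = δ * s := by
      ext x
      change σ * (d * x * d⁻¹) * σ⁻¹ = d * (σ * x * σ⁻¹) * d⁻¹
      have h := hTσ d hd
      calc σ * (d * x * d⁻¹) * σ⁻¹ = (σ * d) * x * (σ * d)⁻¹ := by group
        _ = (d * σ) * x * (d * σ)⁻¹ := by rw [h]
        _ = _ := by group
    have hdo : ¬ r ∣ orderOf d := by
      intro h
      apply hrT
      have h1 : orderOf d = orderOf (⟨d, hd⟩ : T) := by
        rw [Subgroup.orderOf_mk]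
      rw [h1] at h
      exact h.trans (orderOf_dvd_natCard _)
    have hcm := cover s δ hr hsr hsd hδn hdo K le_sup_right hsK hfpf (by
      intro t
      rcases hcov d hd t t.2 with h | ⟨k, hk, h⟩
      · left
        apply (le_sup_left : N' ≤ K)
        rw [hN', Subgroup.mem_subgroupOf]
        exact h
      · right
        refine ⟨k, hk, ?_⟩
        apply (le_sup_left : N' ≤ K)
        rw [hN', Subgroup.mem_subgroupOf]
        push_cast
        rw [hsn]
        exact h)
    have h2 := (hcm.resolve_left hKt) t⁻¹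
    rw [inv_inv] at h2
    exact h2
  rw [eq_top_iff]
  intro x _
  have h3 : ⁅Q, T⁆ ≤ K.map Q.subtype := by
    rw [Subgroup.commutator_le]
    intro a ha d hd
    have h4 := hall d hd ⟨a, ha⟩
    refine ⟨_, h4, ?_⟩
    rw [commutatorElement_def]
    change a * (d * a⁻¹ * d⁻¹) = _
    group
  rw [hQT] at h3
  obtain ⟨y, hy, hyx⟩ := h3 x.2
  have h5 : y = x := Subtype.ext hyx
  rw [← h5]; exact hy

end Cfsg.Agent.H583.L3
end
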