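/-
The semidirect product of the `p`-part with a cyclic group of order `q ^ r`, and its homomorphisms onto the minimal
non-`p`-nilpotent groups.
-/
import Mathlib
import Cfsg.Prelude.Def_Transfer
import Cfsg.Agent.Transfer.NormalPComplement
import Cfsg.Agent.Solvable.FpfThompson
import Cfsg.Agent.H583.SchmidtAct
set_option linter.all false

-- part: H583/SchmidtSemi
section
set_option autoImplicit false

namespace Cfsg.Agent.H583.SchmidtSemi

open Subgroup
open scoped commutatorElement
open Cfsg.Agent.H583.MinAction Cfsg.Agent.H583.SchmidtAct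

theorem isNilpotent_zpowers {G : Type*} [Group G] (x : G) : Group.IsNilpotent (zpowers x) := by
  let _ : CommGroup (zpowers x) :=
    { (inferInstance : Group (zpowers x)) with
      mul_comm := by
        rintro ⟨_, i, rfl⟩ ⟨_, j, rfl⟩
        apply Subtype.ext
        exact (Commute.refl x).zpow_zpow i j }
  infer_instance

section

variable {G : Type*} [Group G] [Finite G] {p q : ℕ} [hp : Fact p.Prime] [hq : Fact q.Prime] (hpq : p ≠ q)
  (P : Subgroup G) (hPn : P.Normal) (hP : IsPGroup p P) (g : G) (r : ℕ) (hg : orderOf g = q ^ r)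
  (hsup : P ⊔ zpowers g = ⊤)

include hpq hPn hP hg hsup

theorem disj : P ⊓ zpowers g = ⊥ := by
  apply Disjoint.eq_bot
  apply Subgroup.disjoint_of_coprime_natCard
  obtain ⟨n, hn⟩ := IsPGroup.iff_card.1 hP
  rw [hn, Nat.card_zpowers, hg]
  exact Nat.Coprime.pow n r ((Nat.coprime_primes hp.out hq.out).2 hpq)

theorem exists_mul (x : G) : ∃ y ∈ P, ∃ k : ℤ, x = y * g ^ k := by
  have hx : x ∈ P ⊔ zpowers g := by rw [hsup]; trivial
  rw [mem_sup_of_normal_left] at hx
  obtain ⟨y, hy, _, ⟨k, rfl⟩, rfl⟩ := hx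
  exact ⟨y, hy, k, rfl⟩

theorem isComplement : P.IsComplement' (zpowers g) := by
  apply isComplement'_of_disjoint_and_mul_eq_univ
  · rw [disjoint_iff]; exact disj hpq P hPn hP g r hg hsup
  · rw [Set.eq_univ_iff_forall]
    intro x
    obtain ⟨y, hy, k, rfl⟩ := exists_mul hpq P hPn hP g r hg hsup x
    exact Set.mul_mem_mul hy ⟨k, rfl⟩

theorem card_eq : Nat.card G = Nat.card P * q ^ r := by
  rw [← (isComplement hpq P hPn hP g r hg hsup).card_mul_card, Nat.card_zpowers, hg]

theorem not_dvd_index : ¬ q ∣ (zpowers g).index := by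
  have h1 : (zpowers g).index = Nat.card P := by
    have h2 := (zpowers g).card_mul_index
    rw [Nat.card_zpowers, hg, card_eq hpq P hPn hP g r hg hsup, mul_comm (Nat.card P)] at h2
    exact Nat.eq_of_mul_eq_mul_left (pow_pos hq.out.pos r) h2
  rw [h1]
  obtain ⟨n, hn⟩ := IsPGroup.iff_card.1 hP
  rw [hn]
  intro h
  exact hpq ((Nat.prime_dvd_prime_iff_eq hq.out hp.out).1 (hq.out.dvd_of_dvd_pow h)).symm

variable (σ : MulAut P) (hσg : ∀ x : P, ((σ x : P) : G) = g * x * g⁻¹) (hmin : MinAct σ) (hσ : σ ^ q = 1)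

include hσg hmin in
/-- The case `g ∈ K`. -/
theorem isNilpotent_of_mem (K : Subgroup G) (hK : K ≠ ⊤) (hgK : g ∈ K) : Group.IsNilpotent K := by
  have hPK : ¬ P ≤ K := by
    intro h1
    apply hK
    rw [eq_top_iff, ← hsup]
    exact sup_le h1 (by rw [zpowers_le]; exact hgK)
  set H : Subgroup P := K.subgroupOf P with hH
  have hHt : H ≠ ⊤ := by
    intro h1
    exact hPK (subgroupOf_eq_top.1 h1)
  have hfix := hmin.fix H hHt (by
    intro x hx
    rw [hH, mem_subgroupOf] at hx ⊢
    rw [hσg]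
    exact mul_mem (mul_mem hgK hx) (inv_mem hgK))
  have hcomm : ∀ x ∈ P ⊓ K, Commute x g := by
    intro x hx
    have h1 := hfix ⟨x, hx.1⟩ hx.2
    have h2 := congrArg Subtype.val h1
    rw [hσg] at h2
    change g * x * g⁻¹ = x at h2
    rw [mul_inv_eq_iff_eq_mul] at h2
    exact h2.symm
  have hPnil : Group.IsNilpotent (P.subgroupOf K) :=
    (hP.comap_of_injective K.subtype K.subtype_injective).isNilpotent
  have hgnil : Group.IsNilpotent (zpowers (⟨g, hgK⟩ : K)) := isNilpotent_zpowers _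
  refine isNilpotent_of_sup hPnil hgnil ?_ ?_
  · rintro ⟨x, hxK⟩ hx _ ⟨k, rfl⟩
    have h1 : Commute x g := hcomm x ⟨hx, hxK⟩
    have h2 : Commute (⟨x, hxK⟩ : K) ⟨g, hgK⟩ := Subtype.ext h1
    exact h2.zpow_right k
  · rw [eq_top_iff]
    rintro ⟨x, hxK⟩ -
    obtain ⟨y, hy, k, rfl⟩ := exists_mul hpq P hPn hP g r hg hsup x
    have hyK : y ∈ K := by
      have h1 : y = y * g ^ k * (g ^ k)⁻¹ := by group
      rw [h1]
      exact mul_mem hxK (inv_mem (zpow_mem hgK k))
    have h1 : (⟨y * g ^ k, hxK⟩ : K) = ⟨y, hyK⟩ * (⟨g, hgK⟩ : K) ^ k := by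
      apply Subtype.ext
      simp
    rw [h1]
    exact mul_mem (mem_sup_left hy) (mem_sup_right (zpow_mem (mem_zpowers _) k))

include hσg hmin hσ in
theorem isNilpotent_of_ne_top (K : Subgroup G) (hK : K ≠ ⊤) : Group.IsNilpotent K := by
  by_cases hex : ∃ k ∈ K, ∃ y ∈ P, k = y * g
  · obtain ⟨k, hkK, y, hy, hky⟩ := hex
    -- a power of `k` of order a power of `q`
    obtain ⟨m, hm⟩ := IsPGroup.iff_card.1 hP
    have hcop : (p ^ m).Coprime (q ^ r) := Nat.Coprime.pow m r ((Nat.coprime_primes hp.out hq.out).2 hpq)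
    obtain ⟨n, hn0, hn1⟩ := Nat.chineseRemainder hcop 0 1
    set π : G →* G ⧸ P := QuotientGroup.mk' P with hπ
    have hπ1 : ∀ x, π x = 1 ↔ x ∈ P := fun x => QuotientGroup.eq_one_iff x
    have hπk : π k = π g := by rw [hky, map_mul, (hπ1 y).2 hy, one_mul]
    have hgn : g ^ n = g := by
      have h1 := (pow_eq_pow_iff_modEq (x := g) (n := n) (m := 1)).2 (by rw [hg]; exact hn1)
      rw [h1, pow_one]
    have hπkn : π (k ^ n) = π g := by rw [map_pow, hπk, ← map_pow, hgn]
    have hord : (k ^ n) ^ (q ^ r) = 1 := by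
      have h1 : p ^ m ∣ n := (Nat.modEq_zero_iff_dvd).1 hn0
      rw [← pow_mul]
      apply orderOf_dvd_iff_pow_eq_one.1
      refine (orderOf_dvd_natCard k).trans ?_
      rw [card_eq hpq P hPn hP g r hg hsup, hm]
      exact Nat.mul_dvd_mul_right h1 _
    have hq1 : IsPGroup q (zpowers (k ^ n)) := by
      apply IsPGroup.of_card (n := (orderOf (k ^ n)).factorization q)
      rw [Nat.card_zpowers]
      obtain ⟨s, -, hs⟩ := (Nat.dvd_prime_pow hq.out).1 (orderOf_dvd_of_pow_eq_one hord)
      rw [hs, Nat.Prime.factorization_pow hq.out, Finsupp.single_eq_same]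
    have hq2 : IsPGroup q (zpowers g) := by
      apply IsPGroup.of_card (n := r)
      rw [Nat.card_zpowers, hg]
    let S : Sylow q G := hq2.toSylow (not_dvd_index hpq P hPn hP g r hg hsup)
    have hS : (S : Subgroup G) = zpowers g := rfl
    obtain ⟨T, hT⟩ := hq1.exists_le_sylow
    obtain ⟨z, hz⟩ := MulAction.exists_smul_eq G T S
    have hzk : z * (k ^ n) * z⁻¹ ∈ zpowers g := by
      rw [← hS, ← hz]
      exact (Subgroup.mem_map_of_mem _ (hT (mem_zpowers (k ^ n))) :
        (MulAut.conj z) (k ^ n) ∈ (T : Subgroup G).map (MulAut.conj z).toMonoidHom)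
    have hzg : z * (k ^ n) * z⁻¹ = g := by
      obtain ⟨s, hs⟩ := hzk
      have hab : ∀ a b : G ⧸ P, a * b = b * a := by
        intro a b
        have hcl : ∀ a : G ⧸ P, ∃ i : ℤ, a = π g ^ i := by
          intro a
          obtain ⟨a, rfl⟩ := QuotientGroup.mk'_surjective P a
          obtain ⟨y, hy, i, rfl⟩ := exists_mul hpq P hPn hP g r hg hsup a
          exact ⟨i, by rw [map_mul, map_zpow, (hπ1 y).2 hy, one_mul]⟩
        obtain ⟨i, rfl⟩ := hcl a
        obtain ⟨j, rfl⟩ := hcl b
        exact (Commute.refl (π g)).zpow_zpow i j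
      have h1 : π (z * (k ^ n) * z⁻¹) = π g := by
        rw [map_mul, map_mul, map_inv, hπkn, hab (π z), mul_inv_cancel_right]
      have h2 : z * (k ^ n) * z⁻¹ * g⁻¹ ∈ P ⊓ zpowers g := by
        refine mem_inf.2 ⟨?_, ?_⟩
        · rw [← hπ1, map_mul, h1, map_inv, mul_inv_cancel]
        · rw [← hs]
          exact mul_mem ⟨s, rfl⟩ (inv_mem (mem_zpowers g))
      rw [disj hpq P hPn hP g r hg hsup, mem_bot] at h2
      exact mul_inv_eq_one.1 h2
    -- conjugate `K`
    let K' : Subgroup G := K.map (MulAut.conj z).toMonoidHom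
    have hgK' : g ∈ K' := ⟨k ^ n, pow_mem hkK n, hzg⟩
    have hK' : K' ≠ ⊤ := by
      intro h1
      apply hK
      rw [eq_top_iff]
      intro x _
      have h2 : (MulAut.conj z) x ∈ K' := by rw [h1]; trivial
      obtain ⟨w, hw, hwx⟩ := h2
      rw [← (MulAut.conj z).injective hwx]; exact hw
    have h1 := isNilpotent_of_mem hpq P hPn hP g r hg hsup σ hσg hmin K' hK' hgK'
    exact Group.nilpotent_of_mulEquiv
      (K.equivMapOfInjective (MulAut.conj z).toMonoidHom (MulAut.conj z).injective).symm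
  · -- `K ≤ P ⟨g ^ q⟩`
    push Not at hex
    have hgqc : ∀ x ∈ P, Commute x (g ^ q) := by
      intro x hx
      have hn : ∀ n : ℕ, ∀ x : P, (((σ ^ n) x : P) : G) = g ^ n * x * (g ^ n)⁻¹ := by
        intro n
        induction n with
        | zero => intro x; simp
        | succ n ih =>
          intro x
          rw [pow_succ', MulAut.mul_apply, hσg, ih, pow_succ']
          group
      have h1 := hn q ⟨x, hx⟩
      rw [hσ, MulAut.one_apply] at h1
      change x = g ^ q * x * (g ^ q)⁻¹ at h1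
      change x * g ^ q = g ^ q * x
      rw [eq_mul_inv_iff_mul_eq] at h1
      exact h1
    have hKle : ∀ x ∈ K, ∃ y ∈ P, ∃ k : ℤ, x = y * (g ^ q) ^ k := by
      intro x hx
      obtain ⟨y, hy, s, rfl⟩ := exists_mul hpq P hPn hP g r hg hsup x
      by_cases hqs : (q : ℤ) ∣ s
      · obtain ⟨k, rfl⟩ := hqs
        refine ⟨y, hy, k, ?_⟩
        rw [zpow_mul, zpow_natCast]
      · exfalso
        have hcop : IsCoprime s ((q : ℤ) ^ r) := by
          apply IsCoprime.pow_right
          rw [isCoprime_comm]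
          exact (Prime.coprime_iff_not_dvd (Nat.prime_iff_prime_int.1 hq.out)).2 hqs
        obtain ⟨u, v, huv⟩ := hcop
        -- `(y g ^ s) ^ u ∈ P g`
        have h1 : (y * g ^ s) ^ u * g⁻¹ ∈ P := by
          rw [← QuotientGroup.eq_one_iff]
          have h2 : ((QuotientGroup.mk' P) ((y * g ^ s) ^ u * g⁻¹)) = 1 := by
            rw [map_mul, map_zpow, map_mul, (show (QuotientGroup.mk' P) y = 1 from (QuotientGroup.eq_one_iff y).2 hy),
              one_mul, ← map_zpow, ← map_mul, ← zpow_mul, ← zpow_sub_one]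
            have h3 : s * u - 1 = - (v * (q : ℤ) ^ r) := by linear_combination huv
            have h4 : g ^ (s * u - 1) = 1 := by
              rw [h3, zpow_neg, mul_comm, zpow_mul]
              have h5 : g ^ ((q : ℤ) ^ r) = 1 := by
                have h6 : ((q : ℤ) ^ r) = ((q ^ r : ℕ) : ℤ) := by push_cast; rfl
                rw [h6, zpow_natCast, ← hg, pow_orderOf_eq_one]
              rw [h5, one_zpow, inv_one]
            rw [h4, map_one]
          exact h2
        refine hex _ (zpow_mem hx u) _ h1 ?_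
        group
    have hPnil : Group.IsNilpotent P := hP.isNilpotent
    let L : Subgroup G := P ⊔ zpowers (g ^ q)
    have hKL : K ≤ L := by
      intro x hx
      obtain ⟨y, hy, k, rfl⟩ := hKle x hx
      exact mul_mem (mem_sup_left hy) (mem_sup_right (zpow_mem (mem_zpowers _) k))
    have hLnil : Group.IsNilpotent L := by
      have h1 : Group.IsNilpotent (P.subgroupOf L) :=
        Group.nilpotent_of_mulEquiv (subgroupOfEquivOfLe (le_sup_left : P ≤ L)).symm
      have hgL : g ^ q ∈ L := mem_sup_right (mem_zpowers _)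
      have h2 : Group.IsNilpotent (zpowers (⟨g ^ q, hgL⟩ : L)) := isNilpotent_zpowers _
      refine isNilpotent_of_sup h1 h2 ?_ ?_
      · rintro ⟨x, hxL⟩ hx _ ⟨k, rfl⟩
        have h3 : Commute (⟨x, hxL⟩ : L) ⟨g ^ q, hgL⟩ := Subtype.ext (hgqc x hx)
        exact h3.zpow_right k
      · rw [eq_top_iff]
        rintro ⟨x, hxL⟩ -
        have hx' := hxL
        rw [mem_sup_of_normal_left] at hx'
        obtain ⟨y, hy, _, ⟨k, rfl⟩, rfl⟩ := hx'
        have h4 : (⟨y * (g ^ q) ^ k, hxL⟩ : L) = ⟨y, mem_sup_left hy⟩ * (⟨g ^ q, hgL⟩ : L) ^ k := by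
          apply Subtype.ext
          simp
        have h5 : (⟨(fun x => x * (fun x => (g ^ q) ^ x) k) y, hxL⟩ : L) =
          ⟨y, mem_sup_left hy⟩ * (⟨g ^ q, hgL⟩ : L) ^ k := h4
        rw [h5]
        exact mul_mem (mem_sup_left hy) (mem_sup_right (zpow_mem (mem_zpowers _) k))
    have h3 : Group.IsNilpotent (K.subgroupOf L) := inferInstance
    exact Group.nilpotent_of_mulEquiv (subgroupOfEquivOfLe hKL)

include hσg hmin hσ in
theorem minimal_of_data : ¬ Cfsg.HasNormalPComplement p G ∧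
    ∀ K : Subgroup G, K ≠ ⊤ → Cfsg.HasNormalPComplement p K := by
  constructor
  · intro h
    obtain ⟨N, hN, hNc, hNq⟩ := Transfer.NormalPComplement.hasNormalPComplement_iff.1 h
    have hgN : g ∈ N := by
      rw [← QuotientGroup.eq_one_iff]
      obtain ⟨k, hk⟩ := hNq (g : G ⧸ N)
      have h1 : (g : G ⧸ N) ^ q ^ r = 1 := by
        rw [← hg, ← QuotientGroup.mk_pow, pow_orderOf_eq_one, QuotientGroup.mk_one]
      rw [← orderOf_eq_one_iff]
      apply Nat.eq_one_of_dvd_coprimes (Nat.Coprime.pow k r ((Nat.coprime_primes hp.out hq.out).2 hpq))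
        (orderOf_dvd_of_pow_eq_one hk) (orderOf_dvd_of_pow_eq_one h1)
    have hPN : P ⊓ N = ⊥ := by
      apply Disjoint.eq_bot
      apply Subgroup.disjoint_of_coprime_natCard
      obtain ⟨n, hn⟩ := IsPGroup.iff_card.1 hP
      rw [hn]
      exact Nat.Coprime.pow_left n hNc.symm
    apply hmin.ne_one
    ext x
    rw [hσg, MulAut.one_apply]
    have h1 : g * x * g⁻¹ * (x : G)⁻¹ ∈ P ⊓ N := by
      refine mem_inf.2 ⟨?_, ?_⟩
      · exact mul_mem (hPn.conj_mem x x.2 g) (inv_mem x.2)
      · have h2 : g * x * g⁻¹ * (x : G)⁻¹ = g * (x * g⁻¹ * (x : G)⁻¹) := by group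
        rw [h2]
        exact mul_mem hgN (hN.conj_mem _ (inv_mem hgN) x)
    rw [hPN, mem_bot] at h1
    exact mul_inv_eq_one.1 h1
  · intro K hK
    exact Solvable.FpfThompson.hasNormalPComplement_of_isNilpotent
      (isNilpotent_of_ne_top hpq P hPn hP g r hg hsup σ hσg hmin hσ K hK) p

end

end Cfsg.Agent.H583.SchmidtSemi
end

-- part: H583/SchmidtField
section
set_option autoImplicit false

namespace Cfsg.Agent.H583.SchmidtField

theorem card_modEq_fixed {α : Type*} [Finite α] {q : ℕ} [hq : Fact q.Prime] (f : α → α) (hf : f^[q] = id) :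
    Nat.card α ≡ Nat.card (Function.fixedPoints f) [MOD q] := by
  classical
  have := Fintype.ofFinite α
  let F : Function.End α := f
  have h0 : ∀ n : ℕ, F ^ n = (f^[n] : α → α) := by
    intro n
    induction n with
    | zero => rfl
    | succ n ih =>
      rw [pow_succ, ih, Function.iterate_succ]
      rfl
  have h1 : F ^ q ^ 1 = 1 := by
    rw [pow_one, h0, hf]
    rfl
  have h2 := Equiv.Perm.card_fixedPoints_modEq h1
  rw [Nat.card_eq_fintype_card]
  refine h2.trans ?_
  rw [← Nat.card_eq_fintype_card]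

theorem orderOf_dvd_of_modEq {p q b : ℕ} (h : p ^ b ≡ 1 [MOD q]) : orderOf (p : ZMod q) ∣ b := by
  apply orderOf_dvd_of_pow_eq_one
  have := (ZMod.natCast_eq_natCast_iff (p ^ b) 1 q).2 h
  exact_mod_cast this

theorem modEq_of_orderOf_dvd {p q b : ℕ} (h : orderOf (p : ZMod q) ∣ b) : p ^ b ≡ 1 [MOD q] := by
  rw [← ZMod.natCast_eq_natCast_iff]
  push_cast
  exact orderOf_dvd_iff_pow_eq_one.1 h

theorem orderOf_pos_of_ne {p q : ℕ} [hp : Fact p.Prime] [hq : Fact q.Prime] (hpq : p ≠ q) :
    0 < orderOf (p : ZMod q) := by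
  have h1 : (p : ZMod q) ≠ 0 := by
    rw [Ne, ZMod.natCast_eq_zero_iff]
    intro h
    exact hpq ((Nat.prime_dvd_prime_iff_eq hq.out hp.out).1 h).symm
  have h2 := ZMod.pow_card_sub_one_eq_one h1
  have h3 : 0 < q - 1 := Nat.sub_pos_of_lt hq.out.one_lt
  rw [orderOf_pos_iff, isOfFinOrder_iff_pow_eq_one]
  exact ⟨q - 1, h3, h2⟩

section

variable {p q a : ℕ} [hp : Fact p.Prime] [hq : Fact q.Prime] (hpq : p ≠ q) (ha : a = orderOf (p : ZMod q))
  {K : Type*} [Field K] [Finite K] (hK : Nat.card K = p ^ a) {ζ : K} (hζ : IsPrimitiveRoot ζ q)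

include hζ in
theorem iterate_mul_eq : (fun x : K => ζ * x)^[q] = id := by
  rw [mul_left_iterate, hζ.pow_eq_one]
  funext x
  simp

include ha hK hζ in
/-- The only `ζ`-invariant additive subgroups of `K` are the trivial ones. -/
theorem eq_bot_or_eq_top (S : AddSubgroup K) (hS : ∀ x ∈ S, ζ * x ∈ S) : S = ⊥ ∨ S = ⊤ := by
  obtain ⟨b, hb, hSb⟩ : ∃ b ≤ a, Nat.card S = p ^ b := by
    rw [← Nat.dvd_prime_pow hp.out, ← hK]
    exact AddSubgroup.card_addSubgroup_dvd_card S
  let f : S → S := fun x => ⟨ζ * x, hS x x.2⟩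
  have hf : f^[q] = id := by
    have h1 : ∀ n : ℕ, ∀ x : S, ((f^[n] x : S) : K) = (fun x : K => ζ * x)^[n] x := by
      intro n
      induction n with
      | zero => intro x; rfl
      | succ n ih =>
        intro x
        rw [Function.iterate_succ_apply, ih, Function.iterate_succ_apply]
    funext x
    apply Subtype.ext
    rw [h1, iterate_mul_eq hζ]
    rfl
  have h1 := card_modEq_fixed f hf
  have h2 : Function.fixedPoints f = {0} := by
    ext x
    constructor
    · intro hx
      have h3 : ζ * (x : K) = x := congrArg Subtype.val hx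
      have h4 : (ζ - 1) * (x : K) = 0 := by rw [sub_mul, h3, one_mul, sub_self]
      rcases mul_eq_zero.1 h4 with h5 | h5
      · exfalso
        have h6 := hζ.ne_one hq.out.one_lt
        exact h6 (sub_eq_zero.1 h5)
      · exact Subtype.ext h5
    · rintro rfl
      apply Subtype.ext
      change ζ * ((0 : S) : K) = _
      simp
  rw [h2, hSb] at h1
  have h3 : p ^ b ≡ 1 [MOD q] := by simpa using h1
  have h4 := orderOf_dvd_of_modEq h3
  rw [← ha] at h4
  rcases Nat.eq_zero_or_pos b with h5 | h5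
  · left
    apply AddSubgroup.card_eq_one.1
    rw [hSb, h5, pow_zero]
  · right
    have h6 : b = a := le_antisymm hb (Nat.le_of_dvd h5 h4)
    apply AddSubgroup.eq_top_of_card_eq
    rw [hSb, hK, h6]

/-- The additive subgroup generated by `1` and the `ζ ^ i + ζ ^ (-i)`. -/
def symSub (ζ : K) : AddSubgroup K :=
  AddSubgroup.closure ({1} ∪ Set.range fun i : ℤ => ζ ^ i + ζ ^ (-i))

theorem one_mem_symSub (ζ : K) : (1 : K) ∈ symSub ζ := AddSubgroup.subset_closure (Or.inl rfl)

theorem zpow_mem_symSub (ζ : K) (i : ℤ) : ζ ^ i + ζ ^ (-i) ∈ symSub ζ := AddSubgroup.subset_closure (Or.inr ⟨i, rfl⟩)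

include hζ in
theorem mul_mem_symSub {x y : K} (hx : x ∈ symSub ζ) (hy : y ∈ symSub ζ) : x * y ∈ symSub ζ := by
  have hζ0 : ζ ≠ 0 := hζ.ne_zero hq.out.ne_zero
  have h1 : ∀ i : ℤ, ∀ y ∈ symSub ζ, (ζ ^ i + ζ ^ (-i)) * y ∈ symSub ζ := by
    intro i y hy
    induction hy using AddSubgroup.closure_induction with
    | mem y hy =>
      rcases hy with hy | ⟨k, rfl⟩
      · rw [Set.mem_singleton_iff] at hy
        rw [hy, mul_one]
        exact zpow_mem_symSub ζ i
      · have h2 : (ζ ^ i + ζ ^ (-i)) * (ζ ^ k + ζ ^ (-k)) =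
            (ζ ^ (i + k) + ζ ^ (-(i + k))) + (ζ ^ (i - k) + ζ ^ (-(i - k))) := by
          rw [neg_add, neg_sub, sub_eq_add_neg, sub_eq_add_neg, zpow_add₀ hζ0, zpow_add₀ hζ0, zpow_add₀ hζ0,
            zpow_add₀ hζ0]
          ring
        change (ζ ^ i + ζ ^ (-i)) * (ζ ^ k + ζ ^ (-k)) ∈ _
        rw [h2]
        exact add_mem (zpow_mem_symSub ζ _) (zpow_mem_symSub ζ _)
    | zero => rw [mul_zero]; exact zero_mem _
    | add y z _ _ ihy ihz => rw [mul_add]; exact add_mem ihy ihz
    | neg y _ ihy => rw [mul_neg]; exact neg_mem ihy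
  induction hx using AddSubgroup.closure_induction with
  | mem x hx =>
    rcases hx with hx | ⟨i, rfl⟩
    · rw [Set.mem_singleton_iff] at hx
      rw [hx, one_mul]
      exact hy
    · exact h1 i y hy
  | zero => rw [zero_mul]; exact zero_mem _
  | add x z _ _ ihx ihz => rw [add_mul]; exact add_mem ihx ihz
  | neg x _ ihx => rw [neg_mul]; exact neg_mem ihx

include hζ in
theorem pow_mem_symSub {x : K} (hx : x ∈ symSub ζ) (n : ℕ) : x ^ n ∈ symSub ζ := by
  induction n with
  | zero => rw [pow_zero]; exact one_mem_symSub ζ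
  | succ n ih => rw [pow_succ]; exact mul_mem_symSub hζ ih hx

include hK hζ in
theorem inv_mem_symSub {x : K} (hx : x ∈ symSub ζ) : x⁻¹ ∈ symSub ζ := by
  by_cases h0 : x = 0
  · rw [h0, inv_zero]; exact zero_mem _
  have := Fintype.ofFinite K
  have h1 : x ^ (Fintype.card K - 1) = 1 := FiniteField.pow_card_sub_one_eq_one x h0
  have h2 : 1 < Fintype.card K := Fintype.one_lt_card
  have h3 : x⁻¹ = x ^ (Fintype.card K - 2) := by
    apply inv_eq_of_mul_eq_one_right
    rw [← pow_succ']
    have h4 : Fintype.card K - 2 + 1 = Fintype.card K - 1 := by omega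
    rw [h4, h1]
  rw [h3]
  exact pow_mem_symSub hζ hx _

include ha hK hζ in
theorem exists_card_symSub : ∃ b : ℕ, Nat.card (symSub ζ) = p ^ b ∧ b ∣ a ∧ a ≤ 2 * b := by
  have hζ0 : ζ ≠ 0 := hζ.ne_zero hq.out.ne_zero
  let F : Subfield K :=
    { carrier := symSub ζ
      mul_mem' := fun {_ _} hx hy => mul_mem_symSub hζ hx hy
      one_mem' := one_mem_symSub ζ
      add_mem' := fun {_ _} hx hy => add_mem hx hy
      zero_mem' := zero_mem (symSub ζ)
      neg_mem' := fun {_} hx => neg_mem hx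
      inv_mem' := fun _ hx => inv_mem_symSub hK hζ hx }
  have hF : Nat.card F = Nat.card (symSub ζ) := rfl
  have h1 : Nat.card K = Nat.card F ^ Module.finrank F K := Module.natCard_eq_pow_finrank
  obtain ⟨b, hb, hSb⟩ : ∃ b ≤ a, Nat.card (symSub ζ) = p ^ b := by
    rw [← Nat.dvd_prime_pow hp.out, ← hK]
    exact AddSubgroup.card_addSubgroup_dvd_card (symSub ζ)
  refine ⟨b, hSb, ?_, ?_⟩
  · rw [hK, hF, hSb, ← pow_mul] at h1
    exact ⟨_, Nat.pow_right_injective hp.out.two_le h1⟩
  · let φ : (symSub ζ) × (symSub ζ) →+ K :=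
      { toFun := fun x => (x.1 : K) + (x.2 : K) * ζ
        map_zero' := by simp
        map_add' := by
          intro x y
          change ((x.1 : K) + y.1) + ((x.2 : K) + y.2) * ζ = _
          ring }
    have hinv : ∀ x ∈ φ.range, ζ * x ∈ φ.range := by
      rintro _ ⟨⟨x, y⟩, rfl⟩
      have h2 : ζ ^ (1 : ℤ) + ζ ^ (-1 : ℤ) ∈ symSub ζ := zpow_mem_symSub ζ 1
      rw [zpow_one, zpow_neg, zpow_one] at h2
      refine ⟨(-y, x + ⟨y * (ζ + ζ⁻¹), mul_mem_symSub hζ y.2 h2⟩), ?_⟩
      change -(y : K) + ((x : K) + y * (ζ + ζ⁻¹)) * ζ = ζ * ((x : K) + y * ζ)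
      field_simp
      ring
    have hne : φ.range ≠ ⊥ := by
      intro h
      have h2 : (1 : K) ∈ φ.range := ⟨(⟨1, one_mem_symSub ζ⟩, 0), by simp [φ]⟩
      rw [h, AddSubgroup.mem_bot] at h2
      exact one_ne_zero h2
    have htop : φ.range = ⊤ := (eq_bot_or_eq_top ha hK hζ φ.range hinv).resolve_left hne
    have hsurj : Function.Surjective φ := AddMonoidHom.range_eq_top.1 htop
    have h2 := Nat.card_le_card_of_surjective φ hsurj
    rw [Nat.card_prod, hK, hSb, ← pow_add] at h2
    have := (Nat.pow_le_pow_iff_right hp.out.one_lt).1 h2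
    omega

end

end Cfsg.Agent.H583.SchmidtField
end

-- part: H583/SchmidtLin
section
set_option autoImplicit false

namespace Cfsg.Agent.H583.SchmidtLin

open Polynomial
open Cfsg.Agent.H583.SchmidtField

section

variable {p q : ℕ} [hp : Fact p.Prime] [hq : Fact q.Prime]

/-- The order of a finite field of characteristic `p` generated as a ring by an element of order `q`. -/
theorem card_field {L : Type*} [Field L] [Finite L] [CharP L p] {u : L} (hu : IsPrimitiveRoot u q)
    (hgen : ∀ S : Subring L, u ∈ S → S = ⊤) : Nat.card L = p ^ orderOf (p : ZMod q) := by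
  have := Fintype.ofFinite L
  set a := orderOf (p : ZMod q) with ha
  obtain ⟨n, -, hn⟩ := FiniteField.card L p
  rw [Nat.card_eq_fintype_card, hn]
  have hcard : Nat.card L = p ^ (n : ℕ) := by rw [Nat.card_eq_fintype_card, hn]
  -- `a ∣ n`
  have h1 : a ∣ (n : ℕ) := by
    apply orderOf_dvd_of_modEq
    have h2 := card_modEq_fixed (fun x : L => u * x) (iterate_mul_eq hu)
    rw [hcard] at h2
    refine h2.trans ?_
    have h3 : Function.fixedPoints (fun x : L => u * x) = {0} := by
      ext x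
      constructor
      · intro hx
        have h3 : u * x = x := hx
        have h4 : (u - 1) * x = 0 := by rw [sub_mul, h3, one_mul, sub_self]
        rcases mul_eq_zero.1 h4 with h5 | h5
        · exact absurd (sub_eq_zero.1 h5) (hu.ne_one hq.out.one_lt)
        · exact h5
      · rintro rfl
        exact mul_zero u
    rw [h3]
    simp [Nat.ModEq]
  -- `x ^ p ^ a = x`
  have h2 : ∀ x : L, x ^ p ^ a = x := by
    have hS := hgen (RingHom.eqLocus (iterateFrobenius L p a) (RingHom.id L)) ?_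
    · intro x
      have : x ∈ RingHom.eqLocus (iterateFrobenius L p a) (RingHom.id L) := by rw [hS]; trivial
      exact this
    · change iterateFrobenius L p a u = u
      rw [iterateFrobenius_def]
      have h3 : p ^ a ≡ 1 [MOD q] := modEq_of_orderOf_dvd dvd_rfl
      have h4 : p ^ a % orderOf u = 1 := by
        rw [← hu.eq_orderOf, h3, Nat.mod_eq_of_lt hq.out.one_lt]
      rw [← pow_mod_orderOf, h4, pow_one]
  obtain ⟨g, hg⟩ := IsCyclic.exists_ofOrder_eq_natCard (α := Lˣ)
  have h3 : g ^ (p ^ a - 1) = 1 := by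
    have h4 : (g : L) ^ p ^ a = g := h2 g
    have h5 : g ^ p ^ a = g := Units.ext (by rw [Units.val_pow_eq_pow_val]; exact h4)
    have h6 : p ^ a = (p ^ a - 1) + 1 := by
      have : 0 < p ^ a := pow_pos hp.out.pos a
      omega
    rw [h6, pow_succ] at h5
    simpa using h5
  have h4 := orderOf_dvd_of_pow_eq_one h3
  rw [hg, Nat.card_units, hcard] at h4
  have hpa : 1 < p ^ a := by
    rcases Nat.eq_zero_or_pos a with h0 | h0
    · exfalso
      have h5 := h2 0
      rw [h0] at h2
      rw [h0, zero_dvd_iff] at h1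
      exact n.pos.ne' h1
    · exact Nat.one_lt_pow h0.ne' hp.out.one_lt
  have h5 : p ^ (n : ℕ) - 1 ≤ p ^ a - 1 := Nat.le_of_dvd (by omega) h4
  have h6 : p ^ (n : ℕ) ≤ p ^ a := by omega
  have h7 : (n : ℕ) ≤ a := (Nat.pow_le_pow_iff_right hp.out.one_lt).1 h6
  have h8 : a ≤ n := Nat.le_of_dvd n.pos h1
  rw [le_antisymm h7 h8]

variable {a : ℕ} (ha : a = orderOf (p : ZMod q)) {K : Type*} [Field K] [Finite K] (hK : Nat.card K = p ^ a)
  {ζ : K} (hζ : IsPrimitiveRoot ζ q)

include ha hK hζ in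
theorem exists_equiv {V : Type*} [AddCommGroup V] [Finite V] (T : V →+ V) (hTq : ∀ v, T^[q] v = v)
    (hT1 : ∃ v, T v ≠ v) (hpV : ∀ v : V, p • v = 0)
    (hirr : ∀ S : AddSubgroup V, (∀ x ∈ S, T x ∈ S) → S = ⊥ ∨ S = ⊤) :
    ∃ j : ℕ, j.Coprime q ∧ ∃ e : V ≃+ K, ∀ v, e (T^[j] v) = ζ * e v := by
  set φ : V →ₗ[ℤ] V := T.toIntLinearMap with hφ
  have hφT : ∀ v, φ v = T v := fun v => rfl
  let M := Module.AEval' φ
  let o : V ≃ₗ[ℤ] M := Module.AEval'.of φ
  have hXo : ∀ v : V, (X : ℤ[X]) • o v = o (T v) := fun v => Module.AEval'.X_smul_of φ v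
  have hnt : Nontrivial V := by
    obtain ⟨v, hv⟩ := hT1
    exact ⟨⟨_, _, hv⟩⟩
  have hntM : Nontrivial M := o.symm.toEquiv.nontrivial
  have hsimple : IsSimpleModule ℤ[X] M := by
    rw [isSimpleModule_iff]
    refine { exists_pair_ne := ⟨⊥, ⊤, bot_ne_top⟩, eq_bot_or_eq_top := ?_ }
    intro N
    let S : AddSubgroup V := (N.toAddSubgroup).comap (o : V →+ M)
    have hmem : ∀ v, v ∈ S ↔ o v ∈ N := fun v => Iff.rfl
    rcases hirr S (by
      intro x hx
      rw [hmem] at hx ⊢
      rw [← hXo]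
      exact N.smul_mem X hx) with h1 | h1
    · left
      rw [eq_bot_iff]
      intro m hm
      have h2 : o.symm m ∈ S := by rw [hmem, LinearEquiv.apply_symm_apply]; exact hm
      rw [h1, AddSubgroup.mem_bot] at h2
      rw [Submodule.mem_bot, ← o.apply_symm_apply m, h2, map_zero]
    · right
      rw [eq_top_iff]
      intro m _
      have h2 : o.symm m ∈ S := by rw [h1]; trivial
      rw [hmem, LinearEquiv.apply_symm_apply] at h2
      exact h2
  obtain ⟨I, hI, ⟨e⟩⟩ := isSimpleModule_iff_quot_maximal.1 hsimple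
  let instL : Field (ℤ[X] ⧸ I) := Ideal.Quotient.field I
  set u : ℤ[X] ⧸ I := Ideal.Quotient.mk I X with hu
  let E : V ≃+ (ℤ[X] ⧸ I) := o.toAddEquiv.trans e.toAddEquiv
  have hE : ∀ v, E v = e (o v) := fun v => rfl
  have hET : ∀ v, E (T v) = u * E v := by
    intro v
    rw [hE, hE, ← hXo, map_smul]
    rfl
  have hETn : ∀ n : ℕ, ∀ v, E (T^[n] v) = u ^ n * E v := by
    intro n
    induction n with
    | zero => intro v; simp
    | succ n ih =>
      intro v
      rw [Function.iterate_succ_apply', hET, ih, pow_succ']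
      ring
  have hfinL : Finite (ℤ[X] ⧸ I) := Finite.of_equiv V E.toEquiv
  obtain ⟨v₁, hv₁⟩ := E.surjective 1
  have huq : u ^ q = 1 := by
    have h1 := hETn q v₁
    rw [hTq, hv₁, mul_one] at h1
    exact h1.symm
  have hu1 : u ≠ 1 := by
    intro h1
    obtain ⟨v, hv⟩ := hT1
    apply hv
    apply E.injective
    rw [hET, h1, one_mul]
  have hup : IsPrimitiveRoot u q := by
    have h1 : orderOf u = q := orderOf_eq_prime huq hu1
    rw [← h1]
    exact IsPrimitiveRoot.orderOf u
  have hchar : CharP (ℤ[X] ⧸ I) p := by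
    apply (CharP.charP_iff_prime_eq_zero hp.out).2
    have h1 := congrArg E (hpV v₁)
    rw [map_nsmul, hv₁, map_zero, nsmul_eq_mul, mul_one] at h1
    exact h1
  have hgen : ∀ S : Subring (ℤ[X] ⧸ I), u ∈ S → S = ⊤ := by
    intro S hS
    rw [eq_top_iff]
    intro x _
    obtain ⟨f, rfl⟩ := Ideal.Quotient.mk_surjective x
    induction f using Polynomial.induction_on' with
    | add f g hf hg => rw [map_add]; exact add_mem (hf trivial) (hg trivial)
    | monomial n c =>
      rw [← C_mul_X_pow_eq_monomial, map_mul, map_pow]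
      refine mul_mem ?_ (pow_mem hS n)
      have h1 : (Ideal.Quotient.mk I) (C c) = ((c : ℤ) : ℤ[X] ⧸ I) :=
        eq_intCast ((Ideal.Quotient.mk I).comp C) c
      rw [h1]
      exact intCast_mem S c
  have hcard : Nat.card (ℤ[X] ⧸ I) = Nat.card K := by
    rw [card_field hup hgen, hK, ha]
  have := Fintype.ofFinite (ℤ[X] ⧸ I)
  have := Fintype.ofFinite K
  let θ : (ℤ[X] ⧸ I) ≃+* K := FiniteField.ringEquivOfCardEq (by
    rw [← Nat.card_eq_fintype_card, ← Nat.card_eq_fintype_card, hcard])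
  have hθu : IsPrimitiveRoot (θ u) q := hup.map_of_injective θ.injective
  have : NeZero q := ⟨hq.out.ne_zero⟩
  obtain ⟨j, hjq, hj⟩ := hθu.eq_pow_of_pow_eq_one hζ.pow_eq_one
  refine ⟨j, ?_, E.trans θ.toAddEquiv, ?_⟩
  · rw [Nat.coprime_comm, Nat.Prime.coprime_iff_not_dvd hq.out]
    intro h1
    have h2 := Nat.eq_zero_of_dvd_of_lt h1 hjq
    rw [h2, pow_zero] at hj
    exact hζ.ne_one hq.out.one_lt hj.symm
  · intro v
    change θ (E (T^[j] v)) = ζ * θ (E v)
    rw [hETn, map_mul, map_pow, hj]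

end

end Cfsg.Agent.H583.SchmidtLin
end

-- part: H583/SchmidtCoord
section
set_option autoImplicit false

namespace Cfsg.Agent.H583.SchmidtCoord

open Subgroup
open scoped commutatorElement
open Cfsg.Agent.H583.MinAction Cfsg.Agent.H583.SchmidtLin Cfsg.Agent.H583.SchmidtField

/-- `f` identifies `P` modulo the fixed points of `σ` with `K`, `σ` acting as multiplication by `ζ`. -/
structure Coord {P K : Type*} [Group P] [Field K] (σ : MulAut P) (ζ : K) (f : P →* Multiplicative K) : Prop where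
  surj : Function.Surjective f
  equiv : ∀ x, (f (σ x)).toAdd = ζ * (f x).toAdd
  ker : ∀ x, f x = 1 ↔ σ x = x

/-- The subgroup of fixed points. -/
def fixSub {P : Type*} [Group P] (σ : MulAut P) : Subgroup P where
  carrier := {y | σ y = y}
  one_mem' := map_one σ
  mul_mem' := by
    intro a b ha hb
    change σ (a * b) = a * b
    rw [map_mul, ha, hb]
  inv_mem' := by
    intro a ha
    change σ a⁻¹ = a⁻¹
    rw [map_inv, ha]

theorem mem_fixSub {P : Type*} [Group P] {σ : MulAut P} {x : P} : x ∈ fixSub σ ↔ σ x = x := Iff.rfl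

theorem minAct_pow {P : Type*} [Group P] {σ : MulAut P} {q j : ℕ} (hq : q.Prime) (hj : j.Coprime q) (h : MinAct σ)
    (hσ : σ ^ q = 1) : MinAct (σ ^ j) ∧ (σ ^ j) ^ q = 1 ∧ ∃ k : ℕ, (σ ^ j) ^ k = σ := by
  obtain ⟨k, hk⟩ : ∃ k : ℕ, (σ ^ j) ^ k = σ := by
    have h1 := Nat.exists_mul_mod_eq_one_of_coprime hj hq.one_lt
    obtain ⟨k, -, hk⟩ := h1
    refine ⟨k, ?_⟩
    rw [← pow_mul, ← Nat.div_add_mod (j * k) q, hk, pow_add, pow_mul, hσ, one_pow, one_mul, pow_one]
  refine ⟨⟨?_, ?_⟩, ?_, k, hk⟩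
  · intro h1
    apply h.ne_one
    rw [← hk, h1, one_pow]
  · intro H hH hinv x hx
    have hpow : ∀ n : ℕ, ∀ x ∈ H, ((σ ^ j) ^ n) x ∈ H := by
      intro n
      induction n with
      | zero => intro x hx; exact hx
      | succ n ih =>
        intro x hx
        rw [pow_succ', MulAut.mul_apply]
        exact hinv _ (ih x hx)
    have hσH : ∀ x ∈ H, σ x ∈ H := by
      intro x hx
      have := hpow k x hx
      rwa [hk] at this
    have hfix := h.fix H hH hσH
    have : ∀ n : ℕ, (σ ^ n) x = x := by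
      intro n
      induction n with
      | zero => rfl
      | succ n ih => rw [pow_succ', MulAut.mul_apply, ih, hfix x hx]
    exact this j
  · rw [← pow_mul, mul_comm, pow_mul, hσ, one_pow]

section

variable {P : Type*} [Group P] [Finite P] {σ : MulAut P} {p q : ℕ} [hp : Fact p.Prime] [hq : Fact q.Prime]
  (hpq : p ≠ q) (hP : IsPGroup p P) (h : MinAct σ) (hσ : σ ^ q = 1)

include hpq hP h hσ

theorem fixSub_le_center : fixSub σ ≤ center P := fun _ hx => mem_center_of_fix hpq hP h hσ hx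

theorem commutator_mem_fixSub (x y : P) : ⁅x, y⁆ ∈ fixSub σ := by
  by_cases hab : ∀ x y : P, x * y = y * x
  · rw [commutatorElement_eq_one_iff_mul_comm.2 (hab x y)]
    exact one_mem _
  · exact fix_of_mem_center hpq hP h hσ hab (commutator_mem_center hpq hP h hσ x y)

theorem pow_mem_fixSub (x : P) : x ^ p ∈ fixSub σ := by
  by_cases hab : ∀ x y : P, x * y = y * x
  · rw [pow_eq_one_of_comm hpq hP h hσ hab]
    exact one_mem _
  · exact fix_of_mem_center hpq hP h hσ hab (pow_mem_center hpq hP h hσ x)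

theorem fixSub_normal : (fixSub σ).Normal := by
  constructor
  intro n hn g
  have h1 : g * n * g⁻¹ = ⁅g, n⁆ * n := by rw [commutatorElement_def]; group
  rw [h1]
  exact mul_mem (commutator_mem_fixSub hpq hP h hσ g n) hn

variable {a : ℕ} (ha : a = orderOf (p : ZMod q)) {K : Type*} [Field K] [Finite K] (hK : Nat.card K = p ^ a)
  {ζ : K} (hζ : IsPrimitiveRoot ζ q)

include ha hK hζ in
theorem exists_coord : ∃ j : ℕ, j.Coprime q ∧ ∃ f : P →* Multiplicative K, Coord (σ ^ j) ζ f := by
  set F := fixSub σ with hF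
  have hFn : F.Normal := fixSub_normal hpq hP h hσ
  let inst : CommGroup (P ⧸ F) :=
    { (inferInstance : Group (P ⧸ F)) with
      mul_comm := by
        intro x y
        obtain ⟨x, rfl⟩ := QuotientGroup.mk'_surjective F x
        obtain ⟨y, rfl⟩ := QuotientGroup.mk'_surjective F y
        rw [← commutatorElement_eq_one_iff_mul_comm, ← map_commutatorElement]
        exact (QuotientGroup.eq_one_iff _).2 (commutator_mem_fixSub hpq hP h hσ x y) }
  let π : P → Additive (P ⧸ F) := fun x => Additive.ofMul (QuotientGroup.mk' F x)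
  have hπmul : ∀ x y, π (x * y) = π x + π y := fun x y => congrArg Additive.ofMul (map_mul (QuotientGroup.mk' F) x y)
  have hπpow : ∀ (n : ℕ) x, π (x ^ n) = n • π x := fun n x => congrArg Additive.ofMul (map_pow (QuotientGroup.mk' F) x n)
  have hπ0 : ∀ x, π x = 0 ↔ x ∈ F := fun x => QuotientGroup.eq_one_iff x
  have hπs : ∀ v, ∃ x, π x = v := fun v => QuotientGroup.mk'_surjective F v.toMul
  have hle : F ≤ F.comap (σ : P →* P) := by
    intro x hx
    rw [mem_comap]
    change σ x ∈ F
    rw [mem_fixSub.1 hx]; exact hx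
  let T : Additive (P ⧸ F) →+ Additive (P ⧸ F) := MonoidHom.toAdditive (QuotientGroup.map F F (σ : P →* P) hle)
  have hT : ∀ x, T (π x) = π (σ x) := fun x => rfl
  have hTn : ∀ n : ℕ, ∀ x, T^[n] (π x) = π ((σ ^ n) x) := by
    intro n
    induction n with
    | zero => intro x; rfl
    | succ n ih =>
      intro x
      rw [Function.iterate_succ_apply', ih, hT, pow_succ', MulAut.mul_apply]
  have hmem : ∀ x y : P, π x = π y ↔ x⁻¹ * y ∈ F := by
    intro x y
    rw [← QuotientGroup.eq]
    exact Iff.rfl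
  -- no fixed points
  have hnofix : ∀ x : P, x⁻¹ * σ x ∈ F → x ∈ F := fun x hx =>
    mem_of_inv_mul_mem hpq hP h hσ F (commutator_mem_fixSub hpq hP h hσ) (fun y hy => hle hy) hx
  have hlin := SchmidtLin.exists_equiv (p := p) (q := q) ha hK hζ T ?_ ?_ ?_ ?_
  rotate_left
  · intro v
    obtain ⟨x, rfl⟩ := hπs v
    rw [hTn, hσ]
    rfl
  · obtain ⟨x, hx⟩ := exists_ne h
    refine ⟨π x, ?_⟩
    rw [hT]
    intro h1
    have h2 := (hmem x (σ x)).1 h1.symm
    exact hx (mem_fixSub.1 (hnofix x h2))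
  · intro v
    obtain ⟨x, rfl⟩ := hπs v
    rw [← hπpow, hπ0]
    exact pow_mem_fixSub hpq hP h hσ x
  · intro S hS
    let H : Subgroup P :=
      { carrier := {x | π x ∈ S}
        one_mem' := by
          change π 1 ∈ S
          rw [(hπ0 1).2 (one_mem _)]
          exact zero_mem _
        mul_mem' := by
          intro x y hx hy
          change π (x * y) ∈ S
          rw [hπmul]
          exact add_mem hx hy
        inv_mem' := by
          intro x hx
          change π x⁻¹ ∈ S
          have h1 : π x⁻¹ = - π x := rfl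
          rw [h1]
          exact neg_mem hx }
    by_cases hH : H = ⊤
    · right
      rw [eq_top_iff]
      intro v _
      obtain ⟨x, rfl⟩ := hπs v
      have : x ∈ H := by rw [hH]; trivial
      exact this
    · left
      rw [eq_bot_iff]
      intro v hv
      obtain ⟨x, rfl⟩ := hπs v
      rw [AddSubgroup.mem_bot, hπ0]
      exact h.fix H hH (by
        intro y hy
        change π (σ y) ∈ S
        rw [← hT]
        exact hS _ hy) x hv
  obtain ⟨j, hj, e, he⟩ := hlin
  obtain ⟨-, -, k, hk⟩ := minAct_pow hq.out hj h hσ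
  refine ⟨j, hj, MonoidHom.mk' (fun x => Multiplicative.ofAdd (e (π x))) ?_, ?_, ?_, ?_⟩
  · intro x y
    rw [hπmul, map_add]
    rfl
  · intro c
    obtain ⟨v, hv⟩ := e.surjective c.toAdd
    obtain ⟨x, rfl⟩ := hπs v
    exact ⟨x, congrArg Multiplicative.ofAdd hv⟩
  · intro x
    change e (π ((σ ^ j) x)) = ζ * e (π x)
    rw [← hTn, he]
  · intro x
    have h1 : Multiplicative.ofAdd (e (π x)) = 1 ↔ x ∈ F := by
      rw [ofAdd_eq_one, map_eq_zero_iff e e.injective, hπ0]
    rw [MonoidHom.mk'_apply, h1, mem_fixSub]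
    constructor
    · intro h2
      have : ∀ n : ℕ, (σ ^ n) x = x := by
        intro n
        induction n with
        | zero => rfl
        | succ n ih => rw [pow_succ', MulAut.mul_apply, ih, h2]
      exact this j
    · intro h2
      have : ∀ n : ℕ, ((σ ^ j) ^ n) x = x := by
        intro n
        induction n with
        | zero => rfl
        | succ n ih => rw [pow_succ', MulAut.mul_apply, ih, h2]
      have h3 := this k
      rwa [hk] at h3

end

end Cfsg.Agent.H583.SchmidtCoord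
end

-- part: H583/SchmidtTop
section
set_option autoImplicit false

namespace Cfsg.Agent.H583.SchmidtTop

open Subgroup
open scoped commutatorElement
open Cfsg.Agent.H583.MinAction Cfsg.Agent.H583.SchmidtAct Cfsg.Agent.H583.SchmidtSemi Cfsg.Agent.H583.SchmidtCoord

universe u

/-- Homomorphisms from the cyclic group of order `n`. -/
theorem exists_cyc_hom {G : Type*} [Group G] (n : ℕ) [NeZero n] (s : G) (hs : s ^ n = 1) :
    ∃ φ : Multiplicative (ZMod n) →* G, φ (Multiplicative.ofAdd 1) = s := by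
  have hmod : ∀ k : ℕ, s ^ (k % n) = s ^ k := by
    intro k
    conv_rhs => rw [← Nat.div_add_mod k n, pow_add, pow_mul, hs, one_pow, one_mul]
  refine ⟨MonoidHom.mk' (fun x => s ^ (x.toAdd.val)) ?_, ?_⟩
  · intro a b
    rw [← pow_add, toAdd_mul, ZMod.val_add, hmod]
  · rw [MonoidHom.mk'_apply, toAdd_ofAdd]
    have h1 := hmod 1
    rw [pow_one] at h1
    rw [← h1]
    congr 1
    rw [ZMod.val_one_eq_one_mod]

theorem exists_pow {n : ℕ} [NeZero n] (c : Multiplicative (ZMod n)) :
    ∃ k : ℕ, c = (Multiplicative.ofAdd (1 : ZMod n)) ^ k := by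
  refine ⟨c.toAdd.val, ?_⟩
  rw [← ofAdd_nsmul, nsmul_eq_mul, mul_one, ZMod.natCast_zmod_val]
  rfl

theorem orderOf_gen (n : ℕ) [NeZero n] : orderOf (Multiplicative.ofAdd (1 : ZMod n)) = n := by
  rw [orderOf_ofAdd_eq_addOrderOf, ZMod.addOrderOf_one]

theorem minAct_congr {P P' : Type*} [Group P] [Group P'] (e : P ≃* P') {σ : MulAut P} {σ' : MulAut P'}
    (hc : ∀ x, σ' (e x) = e (σ x)) (h : MinAct σ) : MinAct σ' := by
  refine ⟨?_, ?_⟩
  · intro h1
    apply h.ne_one
    ext x
    apply e.injective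
    rw [← hc, h1]
    rfl
  · intro H hH hinv x hx
    obtain ⟨x, rfl⟩ := e.surjective x
    rw [hc]
    have h1 := h.fix (H.comap e.toMonoidHom) (by
      intro h1
      apply hH
      rw [eq_top_iff]
      intro y _
      obtain ⟨y, rfl⟩ := e.surjective y
      have : y ∈ H.comap e.toMonoidHom := by rw [h1]; trivial
      exact this) (by
      intro y hy
      have h2 := hinv _ hy
      change σ' (e y) ∈ H at h2
      rw [hc] at h2
      exact h2) x hx
    rw [h1]

/-- External version of `minimal_of_data`. -/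
theorem minimal_of_hom {P₀ G : Type*} [Group P₀] [Group G] [Finite G] {p q : ℕ} [hp : Fact p.Prime]
    [hq : Fact q.Prime] (hpq : p ≠ q) (hP₀ : IsPGroup p P₀) {σ₀ : MulAut P₀} (hmin : MinAct σ₀) (hσ₀ : σ₀ ^ q = 1)
    (ι : P₀ →* G) (hι : Function.Injective ι) (g : G) (r : ℕ) (hg : orderOf g = q ^ r)
    (hsup : ι.range ⊔ zpowers g = ⊤) (hc : ∀ x, ι (σ₀ x) = g * ι x * g⁻¹) :
    ¬ Cfsg.HasNormalPComplement p G ∧ ∀ K : Subgroup G, K ≠ ⊤ → Cfsg.HasNormalPComplement p K := by
  have hn : ι.range.Normal := by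
    rw [← normalizer_eq_top_iff, eq_top_iff, ← hsup]
    apply sup_le
    · exact le_normalizer
    · rw [zpowers_le, mem_normalizer_iff]
      intro y
      constructor
      · rintro ⟨x, rfl⟩
        exact ⟨σ₀ x, hc x⟩
      · rintro ⟨x, hx⟩
        obtain ⟨x, rfl⟩ := σ₀.surjective x
        rw [hc] at hx
        refine ⟨x, ?_⟩
        exact mul_left_cancel (mul_right_cancel hx)
  let e : P₀ ≃* ι.range := MonoidHom.ofInjective hι
  have he : ∀ x, ((e x : ι.range) : G) = ι x := fun x => rfl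
  let σ : MulAut ι.range := MulAut.conjNormal g
  have hσ : ∀ x : ι.range, ((σ x : ι.range) : G) = g * x * g⁻¹ := fun x => MulAut.conjNormal_apply g x
  have hσe : ∀ x, σ (e x) = e (σ₀ x) := by
    intro x
    apply Subtype.ext
    rw [hσ, he, he, hc]
  have hσen : ∀ n : ℕ, ∀ x, (σ ^ n) (e x) = e ((σ₀ ^ n) x) := by
    intro n
    induction n with
    | zero => intro x; rfl
    | succ n ih =>
      intro x
      rw [pow_succ', MulAut.mul_apply, ih, hσe, pow_succ', MulAut.mul_apply]
  refine minimal_of_data hpq ι.range hn (hP₀.of_equiv e) g r hg hsup σ hσ (minAct_congr e hσe hmin) ?_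
  ext x : 1
  obtain ⟨x, rfl⟩ := e.surjective x
  rw [hσen, hσ₀]
  rfl

/-- The group `P₀ ⋊ C_{q ^ r}` and its quotients. -/
theorem exists_group {P₀ : Type} [Group P₀] [Finite P₀] {p q : ℕ} [hp : Fact p.Prime] [hq : Fact q.Prime]
    (hpq : p ≠ q) (hP₀ : IsPGroup p P₀) {σ₀ : MulAut P₀} (hmin : MinAct σ₀) (hσ₀ : σ₀ ^ q = 1) (r : ℕ)
    (hr : 1 ≤ r) :
    ∃ (G₀ : Type u) (_ : Group G₀) (_ : Finite G₀),
      (¬ Cfsg.HasNormalPComplement p G₀ ∧ ∀ K : Subgroup G₀, K ≠ ⊤ → Cfsg.HasNormalPComplement p K) ∧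
      Nat.card G₀ = Nat.card P₀ * q ^ r ∧
      ∀ (X : Type u) [Group X] [Finite X] (P : Subgroup X) (g : X), P ⊓ zpowers g = ⊥ → P ⊔ zpowers g = ⊤ →
        orderOf g = q ^ r → (∃ h : P₀ →* X, h.range = P ∧ (∀ x, h (σ₀ x) = g * h x * g⁻¹) ∧
          ∀ x, h x = 1 → σ₀ x = x) →
        ∃ φ : G₀ →* X, Function.Surjective φ ∧ φ.ker ≤ center G₀ := by
  have : NeZero (q ^ r) := ⟨pow_ne_zero r hq.out.ne_zero⟩
  set n := q ^ r with hn
  obtain ⟨φ, hφ⟩ := exists_cyc_hom n σ₀ (by
    obtain ⟨s, rfl⟩ : ∃ s, r = s + 1 := ⟨r - 1, by omega⟩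
    rw [hn, pow_succ', pow_mul, hσ₀, one_pow])
  set c : Multiplicative (ZMod n) := Multiplicative.ofAdd 1 with hc
  have hφk : ∀ k : ℕ, φ (c ^ k) = σ₀ ^ k := by
    intro k
    rw [map_pow, hφ]
  let S := P₀ ⋊[φ] Multiplicative (ZMod n)
  have hfin : Finite S := Finite.of_equiv _ (SemidirectProduct.equivProd (φ := φ)).symm
  let E : ULift.{u} S ≃* S := MulEquiv.ulift
  let ι : P₀ →* ULift.{u} S := E.symm.toMonoidHom.comp SemidirectProduct.inl
  let κ : Multiplicative (ZMod n) →* ULift.{u} S := E.symm.toMonoidHom.comp SemidirectProduct.inr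
  have hι : Function.Injective ι := E.symm.injective.comp SemidirectProduct.inl_injective
  have hκ : Function.Injective κ := E.symm.injective.comp SemidirectProduct.inr_injective
  have hdec : ∀ y : ULift.{u} S, ∃ x : P₀, ∃ k : ℕ, y = ι x * κ (c ^ k) := by
    intro y
    obtain ⟨y, rfl⟩ := E.symm.surjective y
    obtain ⟨k, hk⟩ := exists_pow y.right
    refine ⟨y.left, k, ?_⟩
    change E.symm y = E.symm (SemidirectProduct.inl y.left) * E.symm (SemidirectProduct.inr (c ^ k))
    rw [← map_mul, ← hk, SemidirectProduct.inl_left_mul_inr_right]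
  have hconj : ∀ x, ι (σ₀ x) = κ c * ι x * (κ c)⁻¹ := by
    intro x
    change E.symm (SemidirectProduct.inl (σ₀ x)) =
      E.symm (SemidirectProduct.inr c) * E.symm (SemidirectProduct.inl x) * (E.symm (SemidirectProduct.inr c))⁻¹
    rw [← map_mul, ← map_inv, ← map_mul, ← map_inv, ← SemidirectProduct.inl_aut, hφ]
  have hord : orderOf (κ c) = n := by
    rw [orderOf_injective κ hκ, hc, orderOf_gen]
  have hsup : ι.range ⊔ zpowers (κ c) = ⊤ := by
    rw [eq_top_iff]
    intro y _
    obtain ⟨x, k, rfl⟩ := hdec y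
    rw [map_pow]
    exact mul_mem (mem_sup_left ⟨x, rfl⟩) (mem_sup_right (pow_mem (mem_zpowers _) k))
  refine ⟨ULift.{u} S, inferInstance, inferInstance,
    minimal_of_hom hpq hP₀ hmin hσ₀ ι hι (κ c) r (by rw [hord]) hsup hconj, ?_, ?_⟩
  · rw [Nat.card_congr E.toEquiv, Nat.card_congr SemidirectProduct.equivProd, Nat.card_prod]
    congr 1
    change Nat.card (ZMod n) = n
    rw [Nat.card_zmod]
  · intro X _ _ P g hdisj hsupX hgord hex
    obtain ⟨h, hrange, hhc, hker⟩ := hex
    obtain ⟨ψ, hψ⟩ := exists_cyc_hom n g (by rw [← hgord, pow_orderOf_eq_one])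
    have hψk : ∀ k : ℕ, ψ (c ^ k) = g ^ k := by
      intro k
      rw [map_pow, hψ]
    have hhk : ∀ k : ℕ, ∀ x, h ((σ₀ ^ k) x) = g ^ k * h x * (g ^ k)⁻¹ := by
      intro k
      induction k with
      | zero => intro x; simp
      | succ k ih =>
        intro x
        rw [pow_succ', MulAut.mul_apply, hhc, ih, pow_succ']
        group
    let Φ : S →* X := SemidirectProduct.lift h ψ (by
      intro d
      obtain ⟨k, rfl⟩ := exists_pow d
      ext x
      change h ((φ (c ^ k)) x) = ψ (c ^ k) * h x * (ψ (c ^ k))⁻¹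
      rw [hφk, hhk, hψk])
    have hΦ : ∀ y : S, Φ y = h y.left * ψ y.right := fun y => rfl
    have hΦι : ∀ x k, Φ (E (ι x * κ (c ^ k))) = h x * g ^ k := by
      intro x k
      have h1 : E (ι x * κ (c ^ k)) = SemidirectProduct.inl x * SemidirectProduct.inr (c ^ k) := rfl
      rw [h1, map_mul, SemidirectProduct.lift_inl, SemidirectProduct.lift_inr, hψk]
    refine ⟨Φ.comp E.toMonoidHom, ?_, ?_⟩
    · rw [← MonoidHom.range_eq_top, eq_top_iff, ← hsupX, ← hrange]
      apply sup_le
      · rintro _ ⟨x, rfl⟩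
        refine ⟨ι x * κ (c ^ 0), ?_⟩
        change Φ (E (ι x * κ (c ^ 0))) = h x
        rw [hΦι, pow_zero, mul_one]
      · rw [zpowers_le]
        refine ⟨ι 1 * κ (c ^ 1), ?_⟩
        change Φ (E (ι 1 * κ (c ^ 1))) = g
        rw [hΦι, map_one, one_mul, pow_one]
    · intro y hy
      obtain ⟨x, k, rfl⟩ := hdec y
      have h1 : h x * g ^ k = 1 := by
        rw [← hΦι]; exact hy
      have h2 : h x ∈ P ⊓ zpowers g := by
        refine mem_inf.2 ⟨?_, ?_⟩
        · rw [← hrange]; exact ⟨x, rfl⟩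
        · rw [eq_inv_of_mul_eq_one_left h1]
          exact inv_mem (pow_mem (mem_zpowers g) k)
      rw [hdisj, mem_bot] at h2
      rw [h2, one_mul] at h1
      have h3 : c ^ k = 1 := by
        apply orderOf_dvd_iff_pow_eq_one.1
        rw [hc, orderOf_gen, ← hgord]
        exact orderOf_dvd_of_pow_eq_one h1
      have hσx : σ₀ x = x := hker x h2
      have hσkx : ∀ l : ℕ, (σ₀ ^ l) x = x := by
        intro l
        induction l with
        | zero => rfl
        | succ l ih => rw [pow_succ', MulAut.mul_apply, ih, hσx]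
      rw [h3, map_one, mul_one, mem_center_iff]
      intro y
      obtain ⟨z, l, rfl⟩ := hdec y
      have hκl : κ (c ^ l) * ι x = ι x * κ (c ^ l) := by
        have hcl : ∀ l : ℕ, ι ((σ₀ ^ l) x) = κ (c ^ l) * ι x * (κ (c ^ l))⁻¹ := by
          intro l
          induction l with
          | zero => simp
          | succ l ih =>
            rw [pow_succ', MulAut.mul_apply, hconj, ih, pow_succ', map_mul, mul_inv_rev]
            simp only [mul_assoc]
        have h4 := hcl l
        rw [hσkx] at h4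
        rw [eq_mul_inv_iff_mul_eq] at h4
        exact h4.symm
      have hzx : ι z * ι x = ι x * ι z := by
        rw [← map_mul, ← map_mul, mem_center_iff.1 (mem_center_of_fix hpq hP₀ hmin hσ₀ hσx) z]
      rw [mul_assoc, hκl, ← mul_assoc, hzx, mul_assoc]

end Cfsg.Agent.H583.SchmidtTop
end
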